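import Cfsg.Agent.Spor.McB.D0

set_option autoImplicit false
set_option maxRecDepth 100000000
set_option Elab.async false

namespace Cfsg.Agent.Spor.McB

theorem ok0 : Net.okb 9 n0 = true := by decide +kernel

theorem ok1 : Net.okb 9 n1 = true := by decide +kernel

theorem ok2 : Net.okb 9 n2 = true := by decide +kernel

theorem ok3 : Net.okb 9 n3 = true := by decide +kernel

theorem ok4 : Net.okb 9 n4 = true := by decide +kernel

theorem ok5 : Net.okb 9 n5 = true := by decide +kernel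

theorem ok6 : Net.okb 9 n6 = true := by decide +kernel

theorem rel0 : T.rel 9 [1, 1] 0 9 = true := by decide +kernel

theorem rel1 : T.rel 9 [2, 2] 0 9 = true := by decide +kernel

theorem rel2 : T.rel 9 [3, 3] 0 9 = true := by decide +kernel

theorem rel3 : T.rel 9 [4, 4] 0 9 = true := by decide +kernel

theorem rel4 : T.rel 9 [5, 5] 0 9 = true := by decide +kernel

theorem rel5 : T.rel 9 [6, 6] 0 9 = true := by decide +kernel

theorem rel6 : T.rel 9 [7, 7, 7] 0 9 = true := by decide +kernel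

theorem rel7 : T.rel 9 [3, 7, 3, 7, 3, 7] 0 9 = true := by decide +kernel

theorem rel8 : T.rel 9 [4, 7, 4, 7, 4, 7] 0 9 = true := by decide +kernel

theorem rel9 : T.rel 9 [3, 2, 4, 3, 4, 3, 2, 4] 0 9 = true := by decide +kernel

theorem rel10 : T.rel 9 [2, 4, 7, 4, 2, 7, 4, 2, 7] 0 9 = true := by decide +kernel

theorem rel11 : T.rel 9 [3, 4, 7, 4, 3, 8, 4, 3, 7, 4] 0 9 = true := by decide +kernel

theorem rel12 : T.rel 9 [2, 7, 2, 7, 2, 7] 0 9 = true := by decide +kernel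

theorem rel13 : T.rel 9 [1, 2, 1, 2] 0 9 = true := by decide +kernel

theorem rel14 : T.rel 9 [5, 4, 1, 7, 4, 5, 8, 4, 7] 0 9 = true := by decide +kernel

theorem rel15 : T.rel 9 [5, 2, 4, 2, 4, 5, 3, 2, 3, 2] 0 9 = true := by decide +kernel

theorem rel16 : T.rel 9 [5, 1, 2, 7, 2, 5, 4, 7, 2, 8, 4] 0 9 = true := by decide +kernel

theorem rel17 : T.rel 9 [1, 4, 3, 7, 4, 8, 3, 2, 4, 2] 0 9 = true := by decide +kernel

theorem rel18 : T.rel 9 [5, 2, 5, 2, 5, 2] 0 9 = true := by decide +kernel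

theorem rel19 : T.rel 9 [5, 2, 4, 5, 3, 8, 4, 2, 5, 3, 4, 2, 7, 3] 0 9 = true := by decide +kernel

theorem rel20 : T.rel 9 [7, 1, 7, 1] 0 9 = true := by decide +kernel

theorem rel21 : T.rel 9 [3, 2, 3, 2, 3, 2, 3, 2] 0 9 = true := by decide +kernel

theorem rel22 : T.rel 9 [4, 2, 4, 2, 4, 2, 4, 2] 0 9 = true := by decide +kernel

theorem rel23 : T.rel 9 [1, 3, 1, 3] 0 9 = true := by decide +kernel

theorem rel24 : T.rel 9 [4, 3, 4, 3, 4, 3] 0 9 = true := by decide +kernel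

theorem rel25 : T.rel 9 [5, 3, 5, 3, 5, 3, 5, 3] 0 9 = true := by decide +kernel

theorem rel26 : T.rel 9 [1, 4, 1, 4, 1, 4, 1, 4] 0 9 = true := by decide +kernel

theorem rel27 : T.rel 9 [5, 4, 5, 4, 5, 4] 0 9 = true := by decide +kernel

theorem rel28 : T.rel 9 [1, 5, 1, 5, 1, 5, 1, 5] 0 9 = true := by decide +kernel

theorem rel29 : T.rel 9 [7, 5, 7, 5, 7, 5] 0 9 = true := by decide +kernel

theorem rel30 : T.rel 9 [7, 1, 4, 7, 1, 4] 0 9 = true := by decide +kernel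

theorem rel31 : T.rel 9 [1, 7, 5, 1, 7, 5] 0 9 = true := by decide +kernel

theorem rel32 : T.rel 9 [2, 6, 2, 6] 0 9 = true := by decide +kernel

theorem rel33 : T.rel 9 [7, 6, 7, 6] 0 9 = true := by decide +kernel

theorem rel34 : T.rel 9 [7, 3, 8, 6, 3, 6] 0 9 = true := by decide +kernel

theorem rel35 : T.rel 9 [6, 1, 6, 1, 6, 1] 0 9 = true := by decide +kernel

theorem rel36 : T.rel 9 [6, 4, 6, 4, 6, 4, 6, 4, 6, 4] 0 9 = true := by decide +kernel

theorem rel37 : T.rel 9 [6, 1, 4, 1, 6, 1, 4, 1, 6, 1, 4, 1, 6, 1, 4, 1, 6, 1, 4, 1] 0 9 = true := by decide +kernel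

theorem rel38 : T.rel 9 [6, 5, 6, 5, 6, 5, 6, 5, 6, 5] 0 9 = true := by decide +kernel

theorem rel39 : T.rel 9 [6, 5, 1, 6, 5, 1, 6, 5, 1, 6, 5, 1, 6, 5, 1] 0 9 = true := by decide +kernel

theorem rel40 : T.rel 9 [6, 4, 2, 6, 4, 2, 6, 4, 2, 6, 4, 2, 6, 4, 2] 0 9 = true := by decide +kernel

theorem rel41 : T.rel 9 [6, 7, 4, 6, 7, 4, 6, 7, 4, 6, 7, 4, 6, 7, 4] 0 9 = true := by decide +kernel

theorem rel42 : T.rel 9 [6, 1, 5, 6, 1, 5, 6, 1, 5, 6, 1, 5, 6, 1, 5] 0 9 = true := by decide +kernel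

theorem rel43 : T.rel 9 [6, 5, 2, 6, 5, 2, 6, 5, 2, 6, 5, 2, 6, 5, 2] 0 9 = true := by decide +kernel

theorem rel44 : T.rel 9 [6, 5, 3, 6, 5, 3, 6, 5, 3, 6, 5, 3, 6, 5, 3] 0 9 = true := by decide +kernel

theorem rel45 : T.rel 9 [6, 7, 5, 6, 7, 5, 6, 7, 5, 6, 7, 5, 6, 7, 5] 0 9 = true := by decide +kernel

theorem rel46 : T.rel 9 [6, 4, 8, 6, 4, 8, 6, 4, 8, 6, 4, 8, 6, 4, 8] 0 9 = true := by decide +kernel

theorem rel47 : T.rel 9 [6, 5, 8, 6, 5, 8, 6, 5, 8, 6, 5, 8, 6, 5, 8] 0 9 = true := by decide +kernel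

theorem hcov : T.treeCov (ones 275) L 1 = true := by decide +kernel

theorem hg : lall (fun z => band (memL L z) (band (sub (ones 275) (T.let z).cl) (T.closed (ones 275) z))) gs = true := by decide +kernel

theorem hivk : ivOk (2 * 6) EX IV = true := by decide +kernel

theorem hrt : RT.ok (2 * 6) EX RL = true := by decide +kernel

theorem hdefs : defs F 352 = true := by decide +kernel

noncomputable def st0_l : List Nat := [nat_lit 0x3ff, nat_lit 0x3ff, nat_lit 0x3ff, nat_lit 0x3ff, nat_lit 0x3ff, nat_lit 0x16080000403, nat_lit 0x16380000403, nat_lit 0x2800000002c80000080003405, nat_lit 0x2000000002c50000080002405, nat_lit 0x18000020000000058600003000078000ec07, nat_lit 0x220000300000000586000010000380008c07, nat_lit 0x140000000161800b20005860000100006800b3808, nat_lit 0x59c0000a00000000b0c0059000001000038000ac08, nat_lit 0x16700002800000002c100162800b0c005920000100006800b640a, nat_lit 0x16d800b60000180000000164000b0c0058a0000100006800b380a,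 nat_lit 0x20016080000c03, nat_lit 0x4000004002c30000180004405, nat_lit 0x800590002c70000180005405, nat_lit 0x2e00000800000800586000010000280006407, nat_lit 0xe00008800b8000020000020000080001c07, nat_lit 0x140005c40000200161800b2000586000030000880012409, nat_lit 0x88005cc0000e00001000b1400586000010000380008c09, nat_lit 0x1d800048002e6000070000080000200009001688000bc09, nat_lit 0xe80001c0000200164800b0c00590000030000880010c09, nat_lit 0x5800004002c800001800b8c05, nat_lit 0x40016580001403, nat_lit 0x1b00003c00004000068000e405, nat_lit 0x7000008002cd000058000d405, nat_lit 0x780000800000001618000040059600007001730000fc09, nat_lit 0x5180010800028000030000140003e002f90005a80062409, nat_lit 0x180000a0001f0017c8000f8005ce000230016a80008809, nat_lit 0xb64000540000600005800b5c05, nat_lit 0x1d80004800006000048000bc05, nat_lit 0xa00000c002cb00006800b6405, nat_lit 0x440000600006800b38005ae0000a0000380008c08, nat_lit 0x478000d8002f90001f000b9c0000c0000b0001a80027c09,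 nat_lit 0x5b00000c0000380008c0060a002d5000110000a408, nat_lit 0x6100002a000030000000059200001000038000a408, nat_lit 0xa0016680003403, nat_lit 0xb60000180000700014800c2c05, nat_lit 0xc38005b40000c000048000cc05, nat_lit 0xd00061a0000c0000280008405, nat_lit 0xe0016f80003c03, nat_lit 0x3c0000700005403, nat_lit 0xf80001c002e30018b0002cc05, nat_lit 0x2d8000800000e0000b80014c05, nat_lit 0xe8005ce00029001850000a0005cc0000e00008800b9409, nat_lit 0xb000b8c02, nat_lit 0x160016f800b8c03, nat_lit 0x160000a800c7803, nat_lit 0x14000640000160000880010c05, nat_lit 0x390000a8000180000d80017405, nat_lit 0x16000030002f3000108001cc05, nat_lit 0x90002e50000c00007c005f200319000590002b408, nat_lit 0x18000034002f30000f8001bc05, nat_lit 0x680000e00007c03, nat_lit 0x18800038002f30000e80018c05, nat_lit 0xf00008402, nat_lit 0x1e0017980008403, nat_lit 0x1c8006680001e0000c800c7005, nat_lit 0x740001100009c03, nat_lit 0x9000046002ea0001100009405, nat_lit 0x9000056002da0017f8000dc05,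 nat_lit 0x900005600302001888000c805, nat_lit 0x480000600006800b74005ae000370019e0001dc08, nat_lit 0x19000b400067c000240000300002c0059e002ff0016b8000dc0a, nat_lit 0x176000d0000674000240000300002c0059e002ff0016b8000dc0a, nat_lit 0xc400005000025001a0800c0405, nat_lit 0xc4000050002fc00012800d0405, nat_lit 0x6880002e00004000034005b20002a000128001dc08, nat_lit 0x82000130000ac03, nat_lit 0x4f8000f8000260001480021405, nat_lit 0x2080004c002e60001e8002c405, nat_lit 0x1e80004c002fd000138001ec05, nat_lit 0x21000050002e6000208002e405, nat_lit 0x5c0003300188000c2800050002fd0000300002408, nat_lit 0xd3c001080030a000140000180000a000190002d8003d409, nat_lit 0x21800054002e60001f8002d405, nat_lit 0xd400069a0002a0017300010405, nat_lit 0x530001100002c0001780023c05, nat_lit 0x35e000a600022000058002d10001780023c07, nat_lit 0x88000160000bc0011e00361001af00053007, nat_lit 0x2700068e0002e0001980027405, nat_lit 0xa0001a20000b80067c00077001a400027407, nat_lit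 0x14000342001a38000b8005a200033001a180028408, nat_lit 0x6c80009c001a1800d2c005da0002e0001980027408, nat_lit 0x6d2000a0001a5800c040005c00356001a280028408, nat_lit 0x30001688000c403, nat_lit 0x30001ab00024403, nat_lit 0x138000320019f0001dc00602003460004e800d9008, nat_lit 0x340016e0000e403, nat_lit 0x27800068002d70001a80027c05, nat_lit 0x3760004f0000d0005ae002cf0001c80029407, nat_lit 0x9f001bb00027800068002cf0016c80021c07, nat_lit 0x3780004f0000d0005ae00035001bd80052407, nat_lit 0x840018400021c006f400034001678000e407, nat_lit 0x190005ee000340016b8000280000e002e60001d800cd809, nat_lit 0xc1c0013c000340016b800bf8005b200087001ad80062409, nat_lit 0x28000684003100018400021c006f4000340001b80028409, nat_lit 0x27800068002fe0016c800c3c0010a0037f00052800de009, nat_lit 0x268006860003600167800b64006120030b0018880026c09, nat_lit 0xbd400070002ff001868000e405, nat_lit 0x37c000520000e0005b2003090004280051c07, nat_lit 0x29000070002d9000150000180000a0002100039800e0009,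 nat_lit 0xe340028c0037f0001c0000300000e0002b0004380052409, nat_lit 0x290000700000c000038000ac0010e0037a0004f800de409, nat_lit 0xb20001e0000fc03, nat_lit 0x1f00010402, nat_lit 0x3e0018a80010403, nat_lit 0xe600007c0003b0018e80016c05, nat_lit 0x6300003e00007000044000920032b000560002cc08, nat_lit 0x3d00073400040001738000180001a002d90004380052409, nat_lit 0x420017080010c03, nat_lit 0x2f800088002e50002a80038c05, nat_lit 0x460017280015c03, nat_lit 0xc80002300012403, nat_lit 0x3200008c002e10002380032405, nat_lit 0xca800090002e50002c8003bc05, nat_lit 0x14800642000510017480012000020002e30017800014c09, nat_lit 0xd40002500013c03, nat_lit 0x2600013c02, nat_lit 0xaa00056800ca8005d0000500018b0002ac07, nat_lit 0x5200190800c5803, nat_lit 0x520019180014c03, nat_lit 0x378000a40031f0018b0002c405, nat_lit 0x636003ac000290000580001e0003b0019b0004a408, nat_lit 0x770000de001d60001480063e003160005680061c08, nat_lit 0x6f8001d0000540002d8003dc05, nat_lit 0x6c8001c80005400169800bbc00742002ee000538005ec09,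 nat_lit 0x2c00016c02, nat_lit 0x1dc0005800172000040005c60031600056800eac08, nat_lit 0x2e0007360005a0000c0000100001a002d90004380052c09, nat_lit 0x620017b800dd403, nat_lit 0xf240014a0038f000320001a405, nat_lit 0x74000214000640003380044405, nat_lit 0x1cc0066e002d20000c000084000e600380000320001a409, nat_lit 0x1940070200072001e7800f2805, nat_lit 0x114001e5000f40000ca0038100094800ee807, nat_lit 0xf40000ca0038e001be800520006b600189001c100047809, nat_lit 0xf28007a000065001c700029000070002ff0016b8000d409, nat_lit 0x6800031800f5403, nat_lit 0x6a0019a8001c403, nat_lit 0x6a0019700045403, nat_lit 0x6a0017c800c640073a003180017c0001ac07, nat_lit 0x189001c1000478000d80006b001ef80045c07, nat_lit 0x11c000360001ac0022e003e00005a000c6407, nat_lit 0x7000189000dec03, nat_lit 0x70000398004a400774000b6001cd8003cc07, nat_lit 0x74001820001d403, nat_lit 0x780019d8001e403, nat_lit 0x780019e80028c03, nat_lit 0x1340003d0001f403, nat_lit 0x840018180021c03, nat_lit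 0xd3c001080030e0004380052c05, nat_lit 0x92001b780024c03, nat_lit 0x15e0004900025403, nat_lit 0x7b0002c4000940004b8005a405, nat_lit 0x3f8000f6000588001280036f0004b8005a407, nat_lit 0x1620004a00025c002d2003fb001fc0007b007, nat_lit 0x9a001a48004c403, nat_lit 0x5c0006e40009c001a18002840070a0036d001c28005d409, nat_lit 0xfc8006b20039f001be000290005e80011f001c180062009, nat_lit 0xa8001778002f403, nat_lit 0x2b000156003b2000550002b405, nat_lit 0x2a8000780003f0005a80100805, nat_lit 0xef40030c000ac00059800e7405, nat_lit 0xf1000754000ac00058800ef405, nat_lit 0x18200056000ed00075a003b50005680060c07, nat_lit 0xb0001da00037c03, nat_lit 0x6a000820000b00005680060c05, nat_lit 0xb2001da000c6803, nat_lit 0xb4001cc8002e403, nat_lit 0xb6001ae000ee003, nat_lit 0x774000b6001cb000c640073a0040a001dc0006a408, nat_lit 0xd540017000396001ca000f8805, nat_lit 0x1900006100032403, nat_lit 0xd800174800cac0080e0032a0017400036407, nat_lit 0x698001b8003ad0006e80069c05,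 nat_lit 0x1ac0007100039c03, nat_lit 0xee001948004a403, nat_lit 0x710001ec003c2001948004ac05, nat_lit 0x77e000f6001cd000e58007320039b0007b800ef808, nat_lit 0x1020019680048403, nat_lit 0x1040019680048c03, nat_lit 0x114001ec80047403, nat_lit 0x450007ae0037b001ad800f8405, nat_lit 0x458007ba004330008b00046c05, nat_lit 0x8520012a00039000cc80066a00073000958010a008, nat_lit 0x41c001a70004f803, nat_lit 0xd640073e00390000a400052c05, nat_lit 0x409000a5000f9003, nat_lit 0x150001b180054403, nat_lit 0x1e4000a800054c03, nat_lit 0x1f0000b30005a4007f600168000b38007c407, nat_lit 0xb60005bc02, nat_lit 0x170001b30005d403, nat_lit 0x172001b58005cc03, nat_lit 0x1f6000bd0005f403, nat_lit 0x182001d580109c03, nat_lit 0x1820020380060c03, nat_lit 0x206000d60006c403, nat_lit 0xd70006c402, nat_lit 0x1b60021200080403, nat_lit 0x208000db0006e403, nat_lit 0x6f00037e0042b000df0006f405, nat_lit 0x428000e2000ef803, nat_lit 0x41f001d400107803, nat_lit 0x4310021c800fb803,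 nat_lit 0x21900117c02, nat_lit 0x21e0000c800b4c00074002e700011800b5407, nat_lit 0x89800444002200010f00006c05, nat_lit 0x8a000448002220011000087800008000000000180004c09, nat_lit 0x8b8004540022400111000880008c600304000110000180000a0001b002320008b40d, nat_lit 0x2340008b800454002290023380004800004002c800161800004000120002d00044800d8c0e, nat_lit 0x22d0023580022003, nat_lit 0x23600119402, nat_lit 0x23600089802, nat_lit 0x5c00237000224006c6000880023780017407, nat_lit 0x2380011bc000ba004730002e00006800008000000000180003c0a, nat_lit 0x2230023a80003803, nat_lit 0x2210023b80004c03, nat_lit 0x10f8011e402, nat_lit 0x47a001798011ec03, nat_lit 0x4a0023d00007403, nat_lit 0x130008f400021000388010f005, nat_lit 0x3580009c0047a0000f8001ac05, nat_lit 0x47a0000200001c005cc0003b00177800e8407, nat_lit 0x47a0000c800b4c00074002e700011800b5407, nat_lit 0x980047a0000c80016c00734000b70018d80014808, nat_lit 0x1b000325002420011e80003e0006b001ef80120808, nat_lit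 0x4c0023e00013c03, nat_lit 0x130008f80001200171800c8005, nat_lit 0x9080004d00247801220000980047c002428002ec08, nat_lit 0x620023f00033403, nat_lit 0x117800228000680023f00035405, nat_lit 0x114001e70001cc00700000640023f00033c07, nat_lit 0x12800039000f3c00794003d00023f00034407, nat_lit 0x3d0000b40001800010800f3c00794000620023f00034409, nat_lit 0x4800024680035c03, nat_lit 0x600009000048f0002980037405, nat_lit 0x8d00120802, nat_lit 0x45e001ee00120803, nat_lit 0xc68007a4004330008b00120805, nat_lit 0x9000010000078000fc005f00006b0024100035808, nat_lit 0x8c000f7800904000d6001d80012240091c0048d0006b8012800a, nat_lit 0x2e800908000120000880011405, nat_lit 0x1240009080047d0002780129805, nat_lit 0x17c004aa00248001210008f40002100038800f9c08, nat_lit 0x860048400009000b8c000a2003250005d8012ac08, nat_lit 0x64a0048400009000b8c000a2003250005d8012ac08, nat_lit 0x12a8009200048400243800b5400608004860024280124409, nat_lit 0x12240063e002f0002440001300090a003a00024200013c09,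 nat_lit 0x2f80096a000ba002420011e800032002e4000228002fc09, nat_lit 0x129c0009c00485002488012ac05, nat_lit 0x1d00060a0048600027800eb805, nat_lit 0x1ce0002c80062e0031e0024400123c000a6000df001dc8010440a, nat_lit 0xc780091c0004c00009000b8c05, nat_lit 0x138000240001700247000ec405, nat_lit 0x67000128000240000200163000b10000060001500260000bc0006440048e0025b800eb80e, nat_lit 0x248000c9002, nat_lit 0x18a002480002f403, nat_lit 0x1240005dc003360009480113005, nat_lit 0x11800962004b5002480002f405, nat_lit 0x6800032002e4000228012d400920002ee0001d000b9c0004a0033b0003b800d000d, nat_lit 0x3800022000450025a801240009080047a0000d80133c000ee002ed001ab8000b40d, nat_lit 0x124800796001150024b80131400978003390003e8004e409, nat_lit 0x42000926004d30009c0004f405, nat_lit 0x494001f78004e403, nat_lit 0x1e380100c007c2004320024b8013140092800460001f000105c0a, nat_lit 0x496001e98002d800736000f5001ac000fcc07, nat_lit 0x92c00114001eb800dec002920039e0024d80034008, nat_lit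 0x454007a6000b60005c8013600078e004da0024b00045009, nat_lit 0x240800ec800812004da0024b000f70000d4002f9001ca000c60005f00032e0008a80125c0e, nat_lit 0x6980093c00180002400012dc001ae004a40006e80069c09, nat_lit 0x81000cb4000dc002f9001cb8002dc00636003ac0006e8012780a, nat_lit 0x120000762000d7002500012a005, nat_lit 0x10b0009ca001800024e80128005, nat_lit 0x4a10024e00139c03, nat_lit 0x122c009480031a001dd8011300089e004ca002558002fc09, nat_lit 0x3280094e004c20025300032c05, nat_lit 0x388010f0009000048d0026100129800090002e50002d800e680a, nat_lit 0x3e10021a8012a003, nat_lit 0x1c0006640006b0008d8012a005, nat_lit 0x4b80005f0012a800968004aa0025a0002fc07, nat_lit 0x318000be0025500131c000a00031600058800ef408, nat_lit 0x1e2000ea800654004bb002550002e8005dc00336000948010980a, nat_lit 0xca002560002e800084000450025900036c07, nat_lit 0x13f4001b4004c60025680032c05, nat_lit 0x25700063402, nat_lit 0x13d0007ce004ae0027b80063405, nat_lit 0xc00025800011c03, nat_lit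 0x13f000194004bb0025900036c05, nat_lit 0x113800994004b40005f800e8c001c4000e5000d9800f0409, nat_lit 0xebc0096c004e10026e80033c05, nat_lit 0xc00025d000e9803, nat_lit 0x30000974002e80026300062c05, nat_lit 0x1b4004c6002558012e800196004ef0027f0013f408, nat_lit 0x460000d4002f9001cb8002e4009b0003c70026d00131400978003e80019c8001fc0d, nat_lit 0x6a00097c0039d0025f8006a405, nat_lit 0xd4400770004be0018c000be0000d6003df0008c80144c09, nat_lit 0x1c5000f60009bc0032f0019a8013c4006b8004110025f000e5400732004f000189000dd40e, nat_lit 0x1f20001c0009e20035c001dc0012f80072a003190025f8010600016c004f000189000dec0e, nat_lit 0x34800094000120000a80130000028000130002580034c09, nat_lit 0x680001ac004c20006b80068405, nat_lit 0x2c0019f00133803, nat_lit 0x4c0000ec004ce0002e8003ec05, nat_lit 0xfb002910004c0000ec0033a0026700017407, nat_lit 0x35f00047000bb0000ec004ce0002e8003ec07, nat_lit 0x89000a6800d7c0011c002ec0003b00133807, nat_lit 0x6100080c000ac0018b800b8800004002c40000080001c0004a004ce0003080041c0d,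 nat_lit 0x53800110004d00001d80029c05, nat_lit 0x134000082004f0001990001bc05, nat_lit 0x2a40008800268000104007360005a0002a80039408, nat_lit 0x42000796004de001e500042405, nat_lit 0x49800878001810027200073c05, nat_lit 0x1448009cc000aa00058800d4005, nat_lit 0x13a400234001190027300060405, nat_lit 0x14e0009d2004eb0027300060405, nat_lit 0x1408009cc003b3000550002cc0073a003e20021c8004ec09, nat_lit 0x281001398009000004c002428002ec0095a0032b000c38013e00a, nat_lit 0x126001ed000464009d4004e80021600073c07, nat_lit 0x690001b4000d900210000360005d2000cb0027700066c09, nat_lit 0x3d800734004f0000398004ac05, nat_lit 0x1448009e40035a00043000c3c05, nat_lit 0x68000906001190027a00049c05, nat_lit 0x6a800744004f6001d18006ac05, nat_lit 0x144800a060018c0025c0013d80031a00502002898001f809, nat_lit 0x3c0001de004fa000770003c405, nat_lit 0x1a40027e00066c03, nat_lit 0x19c0027f00067403, nat_lit 0xcd0013f8009de000ca00195800eac001dc00329000958015100a, nat_lit 0x6b8007440018d0029f00140005,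 nat_lit 0x12c0019c8001f4002760053c002810012a407, nat_lit 0xd200141800a22000da002598002fc0095e000f20007b8015140a, nat_lit 0xf0400a100040f00284800f0005, nat_lit 0x142000824005150020d00076405, nat_lit 0x14b4002f600508002650012d00017e004b9001d18006ac09, nat_lit 0x4d80026a0045e0024b80142800978003390003f80145809, nat_lit 0x5120027500156003, nat_lit 0x5640028b00158803, nat_lit 0x566002ac8012a000a2600516001a8800ee007, nat_lit 0x5e00014800518000528005e405, nat_lit 0x778002900051a000a480077c05, nat_lit 0xf8002920003e403, nat_lit 0x3e000a480005c002940000b0000660009d001b28005c409, nat_lit 0x1c80029300078403, nat_lit 0x5e0029400022c03, nat_lit 0x408000c0005280029780048405, nat_lit 0x14a8003080032a0006580066c05, nat_lit 0x4080020e0052a000c2000ca8005d0000d90021080068c09, nat_lit 0x1f00005c0000d000084000e600337000538014b008, nat_lit 0x29700023402, nat_lit 0x48800a5c0002c001ab00023c05, nat_lit 0x14c0003a00020800e60005f00006f0029700022408, nat_lit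 0x49000a5c0002c00017800d14006840009d001b58005c409, nat_lit 0x29a00152002, nat_lit 0x5630029b00159403, nat_lit 0x24f0014e0002400006e0017c800e5c0016e0031b001d68003740a, nat_lit 0x150800ab600544001df0010ac05, nat_lit 0x10d80085200544002aa00150805, nat_lit 0x8540058c002a100069000a0c001a5002a180155408, nat_lit 0x86c0058f002a1800668009fc0019b002a100156c08, nat_lit 0xaf200542002ad80116c00856001be0007400039408, nat_lit 0x15e400a84001a40006d000ba400976000bf0027b8012e400746000e2000728016500d, nat_lit 0xb0e001a0002450013b40095e003e60009380152008, nat_lit 0xd70006ac00a9400560002be0015bc001f000326000720003a40a, nat_lit 0x7a002a600159403, nat_lit 0x4d8000f40054c0003f0001ec05, nat_lit 0x14c400b2800579002a800163805, nat_lit 0x3c000786000f7002aa0015e005, nat_lit 0x6c000744004af002ab00114c05, nat_lit 0x3440048b00241800f6c007ce00556000d70006ac08, nat_lit 0xd100122c00940004a80027a000f9c00aac0059b0007400038c0a, nat_lit 0x155c0095c004ec000d180169c05, nat_lit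 0x380001d2001bf0022d00156805, nat_lit 0xafc0032c000838015e400aaa00545002ad0016b008, nat_lit 0x20c002af0007dc03, nat_lit 0x1578002f400583001b180054c05, nat_lit 0x6100075600427000ec80157805, nat_lit 0x308000ac0005980105400776001d9002af000f0008, nat_lit 0x2bc80150800b1c00593002140010d800b40005b2002af0005e80a, nat_lit 0x5b6002da80157c03, nat_lit 0x296000538006c400153002d90016e800ab8003c1002af8016cc0a, nat_lit 0x59a002d580158003, nat_lit 0xb4e005600029680160c006c600088000468016bc08, nat_lit 0x2e000068800916004a0002540013d0007ce00556002d58015800a, nat_lit 0x15b800afa00561002d300170405, nat_lit 0x159800258003e90025e8013100092c001140026f800f38006640006b001ef80045c0d, nat_lit 0x1f8006700012d002b380171c007c0000b40018c800f8809, nat_lit 0x26d80100c007c2005c60009b00167400ace00589000960004bc0a, nat_lit 0x111800ae00057d002df0006f405, nat_lit 0x16b8001180002c00017800d180013a00171002b800171409, nat_lit 0x160c001100002c00019800274002e200570002be8014b409,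 nat_lit 0x800005840009200048400aec001020008380168808, nat_lit 0x16bc00b5a00543002bc00041805, nat_lit 0x6fc00b1800578002ca800c9c05, nat_lit 0x170400b9c005ad002a1800668009dc0019b002bc0014a809, nat_lit 0xe880017c004aa00263800ba400196004ee000cd8015e000b2e00595000d9800f040d, nat_lit 0x6c000356005a6002bd00139405, nat_lit 0x104000838014a800bb00057a0008100041407, nat_lit 0x1c6001ab002d30015e800204000600002e80149408, nat_lit 0x360001ab002b000170800b800057a0027280177008, nat_lit 0x530001100008d002d780173800b5c0057e0009180075c09, nat_lit 0x548001100002c00017800d5c0005e0008f002c000075c09, nat_lit 0x67800930003ba0005b000100005ce000250019d0001dc006020008f002c000075c0d, nat_lit 0x582002dc00168803, nat_lit 0x150002c10005f403, nat_lit 0x54000b04005d1002c180054405, nat_lit 0xd3000370000a40001600007800c50009a200089002c10005ec0a, nat_lit 0x5cc0022300161003, nat_lit 0x161800b320051f000d00012900075a000520018f800bc00091c00481001d98006040d, nat_lit 0x17a400bcc005a10021b00164c00a8800590000df00166809,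 nat_lit 0x2ca00168802, nat_lit 0x3280094e000d7000d08017d4009c8001020008380165800af20019a002778013fc0d, nat_lit 0x1a4004dc0024b0010cc00b8c00136002cf00158c08, nat_lit 0xbfa005360003f000ce0007d20012d002b380167c08, nat_lit 0x7900087c005ed002250016c005, nat_lit 0x138800be20017a002de8016c805, nat_lit 0x441002de0005f403, nat_lit 0xb9a001bc002eb800c98001c8000e1002e20015c408, nat_lit 0x4f000870005c80029b80051405, nat_lit 0x5ca0026d8010e803, nat_lit 0x5ca0028500135c03, nat_lit 0x1728009c00048d001d700135c05, nat_lit 0x6e80037a005cc000ba00028000678000770009880148c09, nat_lit 0x1b4000d9800f0400bb4000e2000728006d407, nat_lit 0x69c009c4005f1002ed000e880017c004aa0005d000e8400648000500018b0002bc0d, nat_lit 0xfc002f000039c03, nat_lit 0x451002f100114003, nat_lit 0x20a002f200078403, nat_lit 0x82800bc80014c000a980110005, nat_lit 0x5e6002988006d403, nat_lit 0x82800bcc00440003028007e405, nat_lit 0x20a002f40007fc03, nat_lit 0x75c00bd00019e0024c00113000994004ab0025a8002e8005dc0003a0001f8002d40d,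 nat_lit 0xd80006bc0014c000a780158400354001af002fb000678001a00047f0003380043c0d, nat_lit 0x543000cd0017e8009dc005fa0027780066c07, nat_lit 0x51000bf8000d20006880067c05, nat_lit 0x1380009d8014f000a04005130028b0017f007, nat_lit 0x17f8001a40047f0003380043405, nat_lit 0x4400021a0062e002ff0018b0002700007c0004080050c09, nat_lit 0x18b800b3c00563000a280182005, nat_lit 0xa4600526002f28017a000c54006080026a0014cc08, nat_lit 0x708006b00060a000970012f4001a80047f00032800e0400256005920021b8010a40d, nat_lit 0xef800854005910007b0003d4006b00060a003068018b4001a40047f0003280042c0d, nat_lit 0x30d00188402, nat_lit 0x42f0031280105c009b000416003120010b807, nat_lit 0x31300160002, nat_lit 0x43c00c4c0008e001a300026c05, nat_lit 0x1898006bc005e5000eb0018f805, nat_lit 0x74000c7000545002ad00150c00c500055b002a20018e409, nat_lit 0xc5400144000410001fc00a9a00081000a180077408, nat_lit 0xc5400144000410001fc00a9a00081000a180076c08, nat_lit 0x13a40095000503000c60012e000746001ab002b00005380029a005e5002f40018a80d,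 nat_lit 0x74800c5c0059e002e38010c805, nat_lit 0x3ef0009e8018c800c5c0007a0004080050407, nat_lit 0x4d50031900043003, nat_lit 0xbd8000c6001090031a000ff805, nat_lit 0x2f0000a40017a000f6000794001090031a00148c08, nat_lit 0x15f8002460063e0008700044c05, nat_lit 0x52800a340035b003120018f805, nat_lit 0x558001140052f000918018f805, nat_lit 0x19380026800137002b300162000ad2004be0018c000be0000de001230031f00190c0d, nat_lit 0x32000044c02, nat_lit 0x195400a44003fe0032000044405, nat_lit 0x25000060000330004d80190005, nat_lit 0x4400021e006420008700044405, nat_lit 0x14300318001990002200010f0032100197007, nat_lit 0x4480021e0064200313000d7800298000880004680195c09, nat_lit 0x197400c840065c0032700125400978003390003e8004f409, nat_lit 0x646002f480187c03, nat_lit 0x646002fb8016ac03, nat_lit 0x192000bd2005e40029380195005, nat_lit 0x192000bee001ae000d680080c05, nat_lit 0x15a800ce000648002fb80155c001e40039a00278000f3c007ae0009f001bc8005e40d, nat_lit 0x1fe003248019cc03,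 nat_lit 0x193400228004de0008a80193005, nat_lit 0x13c0003e00020400cce0064e0009a0018bc07, nat_lit 0x197800ca4002f60003380044c05, nat_lit 0x3fe00329000dd400a320037400329800ffc07, nat_lit 0x30880195002, nat_lit 0x6be006270032c000f18006a8003f1000a480077c08, nat_lit 0x1de001be0005e400ce800178001be80077c07, nat_lit 0x6d000bf20054e002e90005d0006d80038400050000d2c002620067e002918014980d, nat_lit 0x1a0000374000e8000738006e405, nat_lit 0x34100179402, nat_lit 0x682000f08018ec03, nat_lit 0x688003380019cc03, nat_lit 0x6880032a80072403, nat_lit 0x2300029000023403, nat_lit 0x8c0000340002100278800e5805, nat_lit 0x8c800d2a003190025f800ee405, nat_lit 0x2340034980195c03, nat_lit 0x8d000d2a002f80003580046400a26005370028b8001f8000fa0013d0026a0014cc0d, nat_lit 0x3f8000bc002310011a801a6c05, nat_lit 0x2360011800017c03, nat_lit 0x23800119001a4c03, nat_lit 0x8c8004600052800046801a8005, nat_lit 0x23c0034d801a7003, nat_lit 0x8f800d4400697000580002bc05, nat_lit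 0x240003510008ec03, nat_lit 0x25000122001a9403, nat_lit 0xfdc00cc6006500034e001aa805, nat_lit 0x24e00128801ab003, nat_lit 0x25400123001a9c03, nat_lit 0x12d00096402, nat_lit 0x96800490006a90012180093405, nat_lit 0x97000494002420011d001a5c006ba004f00018900194c09, nat_lit 0x66300320801ad803, nat_lit 0x25e0012500093403, nat_lit 0x26000357800fdc03, nat_lit 0x9800049c002440011e001a6405, nat_lit 0x35c001af002, nat_lit 0x359001ad400d740025e0012e801adc00cbe0067c0035f001b00004b80024a00126801ad00e, nat_lit 0x4ac0025b0036100096004, nat_lit 0x36200095802, nat_lit 0x1290009180047c0024100124801b1800490002400011f80091c0a, nat_lit 0x36400094802, nat_lit 0x695001ca0002c80015e006b00012a001b2c0048c006a7000570000f00007e006940011b801a7c0f, nat_lit 0x118801b3402, nat_lit 0x36700018402, nat_lit 0x6ce0029000023403, nat_lit 0x3f800d9c004cf001a08004c405, nat_lit 0x40000d9c0005d002eb0006f405, nat_lit 0x1b38000340002100278800e5805, nat_lit 0x200006ce002900002240029e0057c002b880161008,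 nat_lit 0x40000d9c0005d0007d80148800da8000fe00080801b5c09, nat_lit 0x3f800d9c0005d0007d80195000ad600675002b5801a0009, nat_lit 0x40000d9c004cf0003b800d2000686000a1001c28005d409, nat_lit 0x2ba001b3800a50005210000d000064000b2000ef00206800ef00a, nat_lit 0x2ba001b38000ba00326002980016c800c04004e3002118006980a, nat_lit 0x6d00002f00018403, nat_lit 0x49000658006d00008080072c05, nat_lit 0x41000da00005e002678001e405, nat_lit 0x4c800dd4005de00082001b4000202006dd002e600174c09, nat_lit 0x18ac00bd20061f003090006d000b2800106003680003fc09, nat_lit 0x6d2002ba80055403, nat_lit 0x656003690003fc03, nat_lit 0x1b48000bc005200004580055405, nat_lit 0x5310007200038400b5c006d20008080072c07, nat_lit 0x1bc000da4001010036e80173000ba6005a3002cb8014a809, nat_lit 0x378001b4800db2002f8001998001c400878003b3000c080127c0a, nat_lit 0x3780017540020e005a2002a700168c0020c005d4003690015d40a, nat_lit 0x31a001b5002, nat_lit 0xf5000212006340033f001b5005, nat_lit 0x17c800378001bb0030880148800da8000fe002ba80056409,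 nat_lit 0x1ba000be4004580036b00072c05, nat_lit 0xa72005dc002f100114800b36001bd0036b00073408, nat_lit 0x488000dc002f90018c800e7000630006d8002ba80055c09, nat_lit 0x10640097c003950036c000178000340001d0003380198809, nat_lit 0x19600175000dea0015400371800d7400730006d80002f001480009a00003d001da0003740e, nat_lit 0x1fb80198c000cc000630019800042400ca200662003850010500072a006d800369801bd40e, nat_lit 0x3250013a400868001160008c8013c800168006d80002f00133c00048000270003e8004f40e, nat_lit 0x1c1000dd0006da0037080181c05, nat_lit 0x1b68002000057500371800d40001040033800096801564009d00012000092801ba40d, nat_lit 0x558002b20070200374801c5000db4001cd003830013a400ab00059c0009b8015980d, nat_lit 0x184800368000e4000748006f400db8006e1002e9801bb009, nat_lit 0xfb000266006ed002e9001b8000200000ff0037f0014cc09, nat_lit 0x2b800162006e20037e001c3805, nat_lit 0x194800626004f1001ae001b8800114004d00001e8002bc09, nat_lit 0x387801bf400114004d000020800d7000dc4006e5003860001b80003c0001d0003380044c0e,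 nat_lit 0x387801bd000118004d00001e8002c400dc40008a002978001b80065c00068000338019880e, nat_lit 0x57c00e38006140037200055c05, nat_lit 0x1020037300040c03, nat_lit 0x41000dcc0006000267800d0405, nat_lit 0x38f001948005ec0001c0000d80018400dcc005d4002bf001c34001b8000df0020c001c2c0e, nat_lit 0x1f6001ba802, nat_lit 0x6ea0021780160403, nat_lit 0x4c800dd4005df003960005dc05, nat_lit 0x4c800dd40042f000eb80179005, nat_lit 0x5d800e5a001040008380168800dd800132001f68005dc09, nat_lit 0x1cd000e60006ed002fc0006d405, nat_lit 0x1bf800e2800e02006ee003888004f0002720060e00097000ce40004c000250019d8001e40e, nat_lit 0x1c3c00de0005d50008180073c05, nat_lit 0x1bd0001180002c001ab00024405, nat_lit 0x15ec00bb2006f80039e80056c05, nat_lit 0x2b80015a001850037c001c3805, nat_lit 0x73e002bd80176400df0006f00032b8019a407, nat_lit 0x5de0008200041c00b2c0052a0037c001cf407, nat_lit 0x5ba001e08016d000df000154000ac80079c07, nat_lit 0x1d1800abc005da000d580169800bb2006f80037e80056409,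 nat_lit 0x176400df0006fb0030a801d0400e4600163000f6800fe409, nat_lit 0x6a800bb6003c0002db001be000e7a003700004b8005a409, nat_lit 0x50c003ba0066f002b00014b4002f6005b40037c001cf409, nat_lit 0xe8c006020021100069800df400154000ac8007a408, nat_lit 0x798002b0006fc000aa00056405, nat_lit 0xea6001580037e001c3800e800071d001fb80058c08, nat_lit 0x50c00c6000660002b50019d000d00006de0037f001c6809, nat_lit 0x3a1801bcc00e000011f00183800de40071e00064000338004340a, nat_lit 0x1e6003810017c803, nat_lit 0x1c1800aec0057b003a5800fe005, nat_lit 0x580002be00723000b18007b400eb800706003258018ac09, nat_lit 0x58c007f8001ed003ae001c1800a72005f4002cc00150009, nat_lit 0x65d0032d001c2003, nat_lit 0xfd000e4a007080031f00197005, nat_lit 0x1fa001c9400e100042e0031e80177c00e5800756003a780056c0a, nat_lit 0x24f8003700076c0005200247001384009b6006590032d001c2000c4a004f3002548013a00e, nat_lit 0x5980012c00095003850002d8007360005a0016980029c00a5800561002a58019b80d, nat_lit 0x3b0001c2800832003b90037100022800a520001a0000e8011f8001a60051d002ff8018bc0e,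 nat_lit 0xd00003580075c004c40026d801020003020049f003860001b8000d6003dd003260019e40e, nat_lit 0x33380193800946004a40006e801c3000246006250027980144c00b920041c00042000c440e, nat_lit 0x15c0039e001c38002bc007670039f00073c07, nat_lit 0xea800746002af0016d000df00070e0039180058c08, nat_lit 0x19340092e004db0032c8004380022600742000ad001cf000e1c0073b002cc8015240d, nat_lit 0x86000414001d6003b10019ac00e200062b000ff80084c09, nat_lit 0x4f80027a00710000a2000d34005b40030c0001b80028c09, nat_lit 0x580007e80076500333000200006700012d0038b00055800dca001a70027180108c0d, nat_lit 0x3ac8018b8006a40059d0038b00196c00c7e00625002798013980030200769002bb00073c0e, nat_lit 0x326800450007ae0037b001f8001ce4002660071800336001da80a, nat_lit 0x1248002120071a00396801d14002b60073e000e7801ce800e800072b0004a0002640d, nat_lit 0x580007e80015f0038e001d0400e46000940004b80059409, nat_lit 0x580002be0071c003a0801c8c001280036f0004b80059c09, nat_lit 0x189c0021c001130039000057805, nat_lit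 0xb3801e0000edc0051e002cc001df800e860066800390001cec00b320076f0033c801e040e, nat_lit 0x5b00012c0009500391001d0000c28001a7002f8800f0009, nat_lit 0x4c8000f0000770039400177c00e52000760003c8004cc09, nat_lit 0xbb001cb400e5200076001a0801ca000bbe006eb0003c0001dc00694000a3000bb801cdc0e, nat_lit 0x4c0000c00006600310002a30015340010200771001a3800c0000e500072c003bd0004f80e, nat_lit 0x5b80012c0009500395001d04002bc00765003358019ec09, nat_lit 0xfe0003d800774000b1001ca800c280049e002ee00178c09, nat_lit 0x2dc00096001b7000dc400e88005de003960005dc08, nat_lit 0xf0200166000b7801e64002ec0072d003a280056c08, nat_lit 0x2840075700396801d14002b60079a0033c801e0408, nat_lit 0x1a08006be0072e001f68005dc05, nat_lit 0x6d400f20007300037680168c05, nat_lit 0x1b400028000146003ec00099801e3800e3000612003c8001cc000264000780019e8002840e, nat_lit 0x78000e640078f0039980078405, nat_lit 0xcda00736003cc001e54003a600781000b30005b408, nat_lit 0x5dd002fa00166000e740015e000b0801e1407,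 nat_lit 0x7730039d001d0000c280049e002ee001ea407, nat_lit 0x7c000f0000678003cd801cf80039e0073a003a00002b800156004e7002818013e40d, nat_lit 0x1e5400eb00015a0039e001be400b6e0078c003d300077009, nat_lit 0x7c000f00001d2003ca001ebc002840074f0039e001be409, nat_lit 0x7c000f000079b000ad001cf000dfa00159003a4001d4409, nat_lit 0x7c000f000079b0039f0015ec00b4e001aa002ed800f0009, nat_lit 0x5a8002ce00780003cd801cf80039e005990028f80068000948000df001dc800ef40d, nat_lit 0x33880195400a440067e001ff000e2000cbe00742003b30005840a, nat_lit 0x5a8002d20074a002bd00040800ba80065700334001d0800eb20067a0009e0004e40d, nat_lit 0x7b0002c4007610029a801dc8002b800744002ef8018f400208006d0000808007340d, nat_lit 0x1d2000e8c0055e001e0001e3000f4c0076a000f8801ecc09, nat_lit 0x180c00e8e001e6003df801ec805, nat_lit 0x1ec800884007b3000f4001d2000eb6006dc000e6801ef009, nat_lit 0x1e4c00272007ba003db801eb000884007b3003df001d2000eaa00162003b08004980d, nat_lit 0x19bc00e9a003f8003e10007a000e9000746002d98005480029a0068600336001e9c0d,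 nat_lit 0x1d3000cdc0076a003c50005a405, nat_lit 0x74d003e4801d2803, nat_lit 0x222801e5400ed800535002cc801dbc00f360015a00048000d5c0005e00091003a700050c0e, nat_lit 0x3b000198c0022200631003e6001e9800cda00790000bb001d5800ee20009d001b58005cc0e, nat_lit 0x3ca801d6000efe00599002c3001df8002b400370000180000bc0068c00770000a18007740e, nat_lit 0x73000dba0075a003aa800ff4002c400761003e78007cc09, nat_lit 0xe6001b5c00eb400755000b1001c8800e7600534003e78007cc0a, nat_lit 0x71400381801d2000eb6006dc000e6801f4c07, nat_lit 0x7d60037b0016c800e8e0075b000de00166807, nat_lit 0x7b000ee8001ed003ae001f4c05, nat_lit 0x3ae801f6c02, nat_lit 0x7db003ea001d7403, nat_lit 0x1fe003af0007ac03, nat_lit 0x7f800ebc0077d0030180083405, nat_lit 0x1090007f800ebc00160003c400189c00c860065a00392000584003d6007e000109801de00e, nat_lit 0x112000f9c007600004a000dc4002b60079a003bb801f3c09, nat_lit 0x1fe00058800cc60010d003ca001f4400cda00612003c8001e6000f2a0076c003b000058c0e, nat_lit 0x200000d60016a000af40042d003b40014ec00bb800796003e4801e5c00bba0053b003b48010b000af6005a9000d680080413,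 nat_lit 0x7b000fd000774000f6801f6c05, nat_lit 0x7d0002ec0077a001ac80070c05, nat_lit 0x1ee003c20007ac03, nat_lit 0x7c000f140016d003c6801ed005, nat_lit 0x1e3000f9a0079d000f8801ec405, nat_lit 0x1bb000f1c00718000da0017e405, nat_lit 0x82800c3e00790003cf001a3405, nat_lit 0x114400f2c007c9003cb80114005, nat_lit 0x7fa00228801e58007f0007df003f6801f5000e0c0042c003938010b400e0e007d5003f6001f7c007f20079700228001fec13, nat_lit 0x5f000b70007a00029800110005, nat_lit 0x398001ca007a100083001b980020e007a00007200039c09, nat_lit 0x212800398001ca001b3003fa801be000de0006f50037c8014ac00f40000e4000718006b40e, nat_lit 0x5d000f4400368000ba80173405, nat_lit 0x3ea8007c8002e400366001b6001e88006ce00373000b9801f9c003e6007ec003ef801ef40e, nat_lit 0x573003d20015c803, nat_lit 0x1ea003dc0019cc03, nat_lit 0x36d001b740100800607000b80005cc003e6007d200403001ef0003d8007e9003aa001d240e, nat_lit 0x7be00406001ba403, nat_lit 0xbe0016f400dee0080e003df000560001140052f0009280203400ea400746001068016c40e,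 nat_lit 0x7fe000be0016e00020c0032d003868016280034e007c1003f9001f000034c0058b00386000cb00020e005b9000be801ffc13, nat_lit 0x30000110400dee007d7003f6000fe4007f4007c8001fc001f080101e006f6002d90008340e, nat_lit 0x36d801c0c01018006da000e680201800f78007c200407801c1400fae007ec003de8007300e, nat_lit 0x5c0003e500158003, nat_lit 0x80000358005a8003e50016a805, nat_lit 0x3f500206c008a6005dd003b48015d800af6007ca002d30015e800e4e004e5002ee0011400e, nat_lit 0x40d801f6000fb800807003830014e400ed200707003ae801fb400fb2001ae000d680200c0e, nat_lit 0xfe2007e00031100086400fc8002120031100188408, nat_lit 0x1f8800426007e50010c00187401026001e4002f780078c09, nat_lit 0x8180040600676003f180208c05, nat_lit 0x1df0003d6007e0003f180208c05, nat_lit 0x186800432007e4001090019dc05, nat_lit 0x8aa007ea0040e801ff400c32002060021280200408, nat_lit 0x438002160010200207800fd40081f0010280085c08, nat_lit 0x74000c70005450031b001fb805, nat_lit 0x18dc00a88005540031400150c00aaa005450031b001fb809,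 nat_lit 0x7500070600188001f0801184002680062f00086000444007980082f00418001fb80d, nat_lit 0xd1e0080a003f800208400c740082900347001a4408, nat_lit 0x2b8801c480101c007b2003d8801fd000782005f00041380078800bda0017c002960015f00e, nat_lit 0x1b60007300038400b5c006d20002f00148000112005eb003fb0017a800110005210002f801b4c00b5e000e0000738006dc13, nat_lit 0x20d400d20001b8004000006dc008aa007eb0022a00082409, nat_lit 0xde801b580102c001000036700017c00202006e1004028006f0001d0000e7004000020a80e, nat_lit 0x8080034800115803, nat_lit 0x20e8003700082a0041e0006ec05, nat_lit 0x20cc0105c003cd0008800043400f2800799000fa8020c809, nat_lit 0x131000cd802, nat_lit 0x2620018e80016c03, nat_lit 0x9880007400041001cd800f0805, nat_lit 0x264004238003cc03, nat_lit 0x990004c4002ef0019200036405, nat_lit 0x264004248003bc0078a000ee0042400099407, nat_lit 0x266004238003d403, nat_lit 0x998004c4002d20002d8003d405, nat_lit 0x9980108a00380001c7000df405, nat_lit 0x2150004cc00262000548005fc05,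 nat_lit 0x268001310002a403, nat_lit 0x26e0042a80215c03, nat_lit 0x2740013500212c03, nat_lit 0x64001e880124c00f06007c5001f380217007, nat_lit 0x2760013a80217803, nat_lit 0xc800067000898019a000224000660003280218008, nat_lit 0x21880070200844001348009cc05, nat_lit 0x27a0013600213403, nat_lit 0x13f00216c02, nat_lit 0x27e0013700214c03, nat_lit 0x280001380009cc03, nat_lit 0x2820043200218803, nat_lit 0xa08004e400859000bf8021a005, nat_lit 0xa18004f80026e004288021a805, nat_lit 0x2880043580126c03, nat_lit 0xa28010da00864004308021b805, nat_lit 0x873004380021d803, nat_lit 0xa3000508002780013600213c004da0027900142800a3409, nat_lit 0x147000a10004f00027b0043380122c00906003dd0024b8014280075e004a60025d8003040e, nat_lit 0xa300051e0087d0028280031405, nat_lit 0x1980043f0021ec03, nat_lit 0x4408021fc02, nat_lit 0x26400062800956004b00002380031401104001980006200141000180004aa002480002f40e, nat_lit 0x43a80034000094004850005e8022100017800484000258003440a, nat_lit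 0x2890044380126803, nat_lit 0x8730044480214003, nat_lit 0x871004448003d003, nat_lit 0x853004440021a403, nat_lit 0x10f00088b004478005f804, nat_lit 0x108e0088c0043b00224404, nat_lit 0x13180224c02, nat_lit 0x44a000cd802, nat_lit 0x8940018e80016c03, nat_lit 0x22500007400041001cd800f0805, nat_lit 0x101001128002ef0019200036405, nat_lit 0x22500014e00583000a78015f005, nat_lit 0x80800894001778012100009e000d70024500227008, nat_lit 0x202002250005de00042000228012a80098e000d90044e0022840a, nat_lit 0x264801010011280003a002688014a4000c200103002168013a40a, nat_lit 0x5f8011280003a0000700004c0090e002d5000110000a40010a00739001f58004cc0d, nat_lit 0xf20005400029e0057c0041b00227801128000a90044f801714010320014e000a98011000e, nat_lit 0x89600054000cd803, nat_lit 0xdf00071e003810044b0005fc05, nat_lit 0x106800250008960020280132005, nat_lit 0xe040112c000a80016900015c05, nat_lit 0x22c0000c8003d1001e58001a0000ca003810044b00226c09, nat_lit 0x2ab001f6000fb4007c2003a8001d18003b0001280044b0010140a,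 nat_lit 0x8f000f5000660003cb001eb800c4c000e600896000540000e8000820035c001de8006180e, nat_lit 0x3a8011660089a0044b8001c80079e003d70004f800ddc09, nat_lit 0xf40044c0005fc03, nat_lit 0x427001dd0010500072a00399001cd802260001500031d0000c000bcc0003a00063001e5800f6400716003740004f800e1c13, nat_lit 0xea004598022680080a004cc0006280065407, nat_lit 0xc4001d28022cc01134004050026600031407, nat_lit 0x22cc01134008940001d000b9c0000c0000d0001c80029409, nat_lit 0x3a8011660089a0044a000b48000300001f0003680047c09, nat_lit 0x10c8007a6003bb002130003b801134004050026600032409, nat_lit 0x2268001500003a0001e8002b40116c0011e001c580029409, nat_lit 0x4e8000f800081003ab8005dc00e60006ed000780022680080a008a3002660014100d, nat_lit 0x3b0011660089a0020280227400842001a3002e08016b800baa00105003758004cc0d, nat_lit 0xe08003aa00833003f7800708001e8003c20044d00101401146004cc000628006540d, nat_lit 0x79800f98007ca0037a0004f8022f0001dc0089a00054000bbc009080004b0023f8001940e, nat_lit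 0x7500230c011900089a0044a0002a401136000580002b8003ac01172008bc001e28010340e, nat_lit 0x5f801136008b2000758022fc05, nat_lit 0x227801136000ef001e28003b8001e20054f0037600233009, nat_lit 0x23340114c0017e0044d8003bc0075400407000c28014ac0020c005d40032b8019780d, nat_lit 0x44e00132002, nat_lit 0x89c0005e000c9003, nat_lit 0x1d28003440089c0045180132005, nat_lit 0x620007c2001160024100122801138004cc0006280064c09, nat_lit 0x107c0118c001160024100122801138004cc001d28003ac09, nat_lit 0x286800e9c0094e003b000270801258008be004a300245002270001780048400027800eb80e, nat_lit 0x5f00014c000a90044f8020d80113c000a8000538005f409, nat_lit 0xe30003d801130000a8000538016e000f40003270007c8020d80113c008990046880042c0e, nat_lit 0x2650002e80017a004040044f8020d800adc0089e00054000bbc001760018b004570014540e, nat_lit 0xa04001180008d80229000992008a20045000132008, nat_lit 0x34000094004850005e80228000178004840002580034409, nat_lit 0xcc00031000a08000c0002550012400017a008a00026400062800956004b0000238003140e,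 nat_lit 0x3c50005a4011be0018a0025a0001100008e004cd004510002f000742000bb000c58014380e, nat_lit 0x4d00026e00589002ac80229000992004cc000628023c009, nat_lit 0x23c4001880050400287802294009d6004a9004520022b809, nat_lit 0x1268006b0003f30032c80197000cd600609003250013a401148008ae0028a8023d80d, nat_lit 0x470000620009e6004a900452000628009960040f004758022bc0114a00434001f00006240e, nat_lit 0x3180074a000ed0046680229805, nat_lit 0x51800e72001330045300235405, nat_lit 0x5f4001460039c800fb4002ee007300045300235408, nat_lit 0x3b801164000ed0046c800e20011b0008cd004530023f009, nat_lit 0x238c001d4000ed0046b0015b8011ae008cd004530023f009, nat_lit 0xb5000258006e200744003758004cc0114c008ba0024d8023e40a, nat_lit 0x1ee400f0a007aa003b98007380020400107002d1001bb00114c008d5000ca00065c0d, nat_lit 0x155800fb0007d600382001c5000b0a00401002e9801bb00114c008fc004820006400d, nat_lit 0x17b4011cc006040045400079005, nat_lit 0x3c4005ed003ff80204801150001e4000f180208808, nat_lit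 0x109001004002070041280243c01028006000045400187000c36005720041a0006e00d, nat_lit 0x1a3c010500061a0030e8022a00102600601004870020900040c00425004008006e40d, nat_lit 0x1c6000520007c800070000398022a800252003ba0020c800ee40077a008d2004710024140e, nat_lit 0x5f80015000895000bf8022b005, nat_lit 0x322009050047e8022b00071a00146001a700182808, nat_lit 0x12320060d003dd00241c011e2000c4001d28022c008, nat_lit 0x11c6000ea00458000190008fc000d50047200232808, nat_lit 0x3a8008c4000750022c000216001d1003228023a008, nat_lit 0x1160000640003380044c00cd2001120003300019408, nat_lit 0x750022c00123400191004828003180074a008c3001bc000e1c0a, nat_lit 0x65801180000c4001d28022c0007020012b002c90010dc00b40005e7003450015b40d, nat_lit 0x2310001d400921004588003ac05, nat_lit 0x23a400214008b10049080042c05, nat_lit 0x2318007c0000b4001cb800e6c00784008b20007580249809, nat_lit 0x46b00227800150002d20002a80039c0037200912003440019d0002f0008c8004590003b40e, nat_lit 0x3080008c000430005e8022d005,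 nat_lit 0x7500116e00185003fa00157000fea001840045b00075409, nat_lit 0x4718003a8000ac002e4000080000540062c000ad0045b0024a80118c004350025400140c0e, nat_lit 0x3d7001f4400f8e0078d003fa8006100080c008b6000ea80210c01262001d4001c18023e80e, nat_lit 0x8fd0045d00126c03, nat_lit 0x45f00248c011780090300063000118005c2000450006080143c011bc007c9000b40005ac0e, nat_lit 0x1e64002ec0077a001f9800528002920038d0047f8022f8001d4003a400064800ea40d, nat_lit 0x19c4002f00037d001cf00126c001a0000cf00262801250011ea008f10046000065c0d, nat_lit 0x1950002f0008c20007680070405, nat_lit 0x41e00175c0064c007a1002d10003c001192008c2000768024b4003820093e000e48020fc0e, nat_lit 0xcb000310001920092b004620003a8001da008cd00398801e600a, nat_lit 0x247801084001d400495002318008c20013400317801e5000f32001f5004170019140d, nat_lit 0xe4001950002f0008c8001e18003dc0038e0092900085002340000b400055000738018580e, nat_lit 0xbe0006080232803, nat_lit 0x2418002d4001670047980232805, nat_lit 0x19c400ad400178001be800e78006b00060a000970012f4011c8008ca0048e0011740d,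 nat_lit 0xce0013fc00194003a6002860023c800f140016d003e3001f40002dc0016b0049c0023380e, nat_lit 0x253c0119e00900004a700154805, nat_lit 0xc70024bc001e4000f7000e380251400214008d0000798015580103400454004a08021040e, nat_lit 0x850022c4000ac00055002f08003f40128c00690003440005e00071e008d00007b800ef80e, nat_lit 0x4a00020f000b34005570049700246c0021600955002c88003d8011a20091a000c78007ec0e, nat_lit 0xfc0005f00014c002d20002b8003b4011ac008370044f0005fc0122e001df00342801a340e, nat_lit 0x6d00131800316008de003a5001f2800a940074d003e400237c011b4008dd0006d8014180e, nat_lit 0xf7000590002d6009380048000253800338004fd0006d002370009da003a3000d68008040e, nat_lit 0xff00191c00f8e007cd000ed80253401266008ed0046f001f2400f2e005a500228001fec0e, nat_lit 0xfe00065800326008fb004a700254000338000ca0025600062c011bc00797002280025780e, nat_lit 0x4a9801a0400ad400178001c9000de001170008e2004a60024f40a, nat_lit 0x4ac001a300124800196000cc802418002d40078b000b30005ac0127000194000cb8007f40e,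 nat_lit 0x258c01210007b9003be80180c05, nat_lit 0xfd000638012140092e000c780259c0041a0090e0041200114400b4a007a9000f78025740e, nat_lit 0x4b480206c00aae0090b0049780155800bec001ff004af8020940104c00423003be0007ac0e, nat_lit 0x1f8000fc60090e000f10010f801218005ef002f680112801020001f9004ac8025940d, nat_lit 0x8100084a009100021200081405, nat_lit 0x85000d1c009120034780085405, nat_lit 0x4ab0020f80106800912003478019d800c44007f9004ac8020800a, nat_lit 0x4b20025600104000972004ab0020f801068009120022b00255c0a, nat_lit 0x4b700081000358000e20002a00015c00748000c70048a000e30003be0068d004b28008440e, nat_lit 0x10a0019c8003b4009350047d802404011fc009150049b80067c003fe00960001088025d80e, nat_lit 0x4bb800840012ea001fa000c7000644012660053e002800024b80031e00963000fe8008440e, nat_lit 0x85000ce40094d004998014f8012640094c0033980085409, nat_lit 0x4bb000810004020081b002ab8022d400178000bb00256800e980127400942000fe8008440e, nat_lit 0x25c000428002020040f0011500107000209004a000115400fd60081f001018008540d,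 nat_lit 0x1020006b000bb600508004758023d801296009480025c800e8c0035a002030010a8025f40e, nat_lit 0x10a0019c800c900019e004770023e4012960094800257801558010340081f001028025dc0e, nat_lit 0x4b58007a800f0e008f3000600012c8001b60095a0027e0003280074c0041e004a60019cc0e, nat_lit 0x840012d80096a0010780086c05, nat_lit 0x42c0097b001080025b001016009860010780086c08, nat_lit 0x216004b700260c0130200971004c100085c07, nat_lit 0x98c0010b0025b80130600981004c100085c07, nat_lit 0x8680041c00956004a00008240107c00573004148008080040a0096e0010b80262c0d, nat_lit 0x26280042c00978004c280262405, nat_lit 0x290004c7800a4403, nat_lit 0xa400131600991004c5000a4405, nat_lit 0x292004ca800a4c03, nat_lit 0x296001480020b003, nat_lit 0x2980014800262c03, nat_lit 0x29c004cc800a7403, nat_lit 0xa7000524002900010e80266805, nat_lit 0x2920014b80268003, nat_lit 0x14f00268c02, nat_lit 0x29e00149000a6403, nat_lit 0xa7801332009a3004cf80269005, nat_lit 0xa9000528009970014a800a9405, nat_lit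 0x544002a5004d5000a900052800995004cb800a5408, nat_lit 0x4d6000a8802, nat_lit 0x2a0004d7000a8403, nat_lit 0x155000aa402, nat_lit 0xac0005340029f004d3800abc05, nat_lit 0xac801342002960014a800a8405, nat_lit 0xac801344002920014a800aa405, nat_lit 0xad80136c002b2004d2000ad405, nat_lit 0x564009a4004d4000ad401374002b6004d88026d808, nat_lit 0x9b8004de0026e403, nat_lit 0x26cc0137c002a8004d7800aac05, nat_lit 0xae00054c0029400148000858012ee00989004ce000abc09, nat_lit 0x2ba00153000aac03, nat_lit 0x15d000a980052800299004ce802620012f400977004c48026280052200295001558027100e, nat_lit 0x9c5004e000271003, nat_lit 0xaf000550002940014c800abc05, nat_lit 0x4da80272802, nat_lit 0xaf800554002940014b800ab405, nat_lit 0xaf800554002a10015b8026ec05, nat_lit 0x139c002be004e0800aa80135e002940014b800ab408, nat_lit 0x57c002aa0014a0026540052e002ad004e980273808, nat_lit 0x9d10015a00269c0133a00992004c40025f8012ec00978004c00025e4012ee0097e004c480264801338009a60015a80274013,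 nat_lit 0x9d5004eb800af801382009c4004e38027240138a002bf004ea80275c0057c009c1004e200271c0f, nat_lit 0x9c6004ec000af803, nat_lit 0x139c009d9004ed8026cc04, nat_lit 0x9b2004ed000ae803, nat_lit 0x570009de004ee000ab004, nat_lit 0x578009df0015c80278404, nat_lit 0x9c2004f080266c03, nat_lit 0x9cd004f1800a5803, nat_lit 0x13cc009b5004f28020b404, nat_lit 0x1488027a402]
theorem st0 : band (steps F IV RT base st0_l 352) (Nat.beq (Nat.add 352 (llen st0_l)) 1270) = true := by decide +kernel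

theorem rot1_1 : T.rot 1 [1] (sel (ones 275) ip1 1) = true := by decide +kernel

theorem rot1_1r : band (Rule.ok (2 * 6) EX RL ⟨1 :: [1], [], 42, false⟩) (lall (memL L) [1]) = true := by decide +kernel

theorem rot1_2 : T.rot 1 [2, 1, 2] (sel (ones 275) ip1 2) = true := by decide +kernel

theorem rot1_2r : band (Rule.ok (2 * 6) EX RL ⟨1 :: [2, 1, 2], [], 7, true⟩) (lall (memL L) [2, 1, 2]) = true := by decide +kernel

theorem rot1_3 : T.rot 1 [7, 1, 7] (sel (ones 275) ip1 3) = true := by decide +kernel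

theorem rot1_3r : band (Rule.ok (2 * 6) EX RL ⟨1 :: [7, 1, 7], [0], 14, true⟩) (lall (memL L) [7, 1, 7]) = true := by decide +kernel

theorem rot1_4 : T.rot 1 [8, 1, 8] (sel (ones 275) ip1 4) = true := by decide +kernel

theorem rot1_4r : band (Rule.ok (2 * 6) EX RL ⟨1 :: [8, 1, 8], [], 14, false⟩) (lall (memL L) [8, 1, 8]) = true := by decide +kernel

theorem rot1_5 : T.rot 1 [3, 1, 3] (sel (ones 275) ip1 5) = true := by decide +kernel

theorem rot1_5r : band (Rule.ok (2 * 6) EX RL ⟨1 :: [3, 1, 3], [], 17, true⟩) (lall (memL L) [3, 1, 3]) = true := by decide +kernel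

theorem rot1_6 : T.rot 1 [4, 7, 1, 4, 7] (sel (ones 275) ip1 6) = true := by decide +kernel

theorem rot1_6r : band (Rule.ok (2 * 6) EX RL ⟨1 :: [4, 7, 1, 4, 7], [13], 24, true⟩) (lall (memL L) [4, 7, 1, 4, 7]) = true := by decide +kernel

theorem rot1_7 : T.rot 1 [8, 4, 1, 8, 4] (sel (ones 275) ip1 7) = true := by decide +kernel

theorem rot1_7r : band (Rule.ok (2 * 6) EX RL ⟨1 :: [8, 4, 1, 8, 4], [6], 24, false⟩) (lall (memL L) [8, 4, 1, 8, 4]) = true := by decide +kernel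

theorem rot1_8 : T.rot 1 [7, 5, 1, 7, 5] (sel (ones 275) ip1 8) = true := by decide +kernel

theorem rot1_8r : band (Rule.ok (2 * 6) EX RL ⟨1 :: [7, 5, 1, 7, 5], [], 25, true⟩) (lall (memL L) [7, 5, 1, 7, 5]) = true := by decide +kernel

theorem rot1_9 : T.rot 1 [5, 8, 1, 5, 8] (sel (ones 275) ip1 9) = true := by decide +kernel

theorem rot1_9r : band (Rule.ok (2 * 6) EX RL ⟨1 :: [5, 8, 1, 5, 8], [0], 25, false⟩) (lall (memL L) [5, 8, 1, 5, 8]) = true := by decide +kernel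

theorem rot1_10 : T.rot 1 [6, 1, 6, 1, 6] (sel (ones 275) ip1 10) = true := by decide +kernel

theorem rot1_10r : band (Rule.ok (2 * 6) EX RL ⟨1 :: [6, 1, 6, 1, 6], [], 29, false⟩) (lall (memL L) [6, 1, 6, 1, 6]) = true := by decide +kernel

theorem rot1_11 : T.rot 1 [4, 1, 4, 1, 4, 1, 4] (sel (ones 275) ip1 11) = true := by decide +kernel

theorem rot1_11r : band (Rule.ok (2 * 6) EX RL ⟨1 :: [4, 1, 4, 1, 4, 1, 4], [], 20, true⟩) (lall (memL L) [4, 1, 4, 1, 4, 1, 4]) = true := by decide +kernel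

theorem rot1_12 : T.rot 1 [5, 1, 5, 1, 5, 1, 5] (sel (ones 275) ip1 12) = true := by decide +kernel

theorem rot1_12r : band (Rule.ok (2 * 6) EX RL ⟨1 :: [5, 1, 5, 1, 5, 1, 5], [], 22, true⟩) (lall (memL L) [5, 1, 5, 1, 5, 1, 5]) = true := by decide +kernel

theorem rot1_13 : T.rot 1 [7, 4, 5, 8, 4, 7, 5, 4] (sel (ones 275) ip1 13) = true := by decide +kernel

theorem rot1_13r : band (Rule.ok (2 * 6) EX RL ⟨1 :: [7, 4, 5, 8, 4, 7, 5, 4], [8, 6], 8, true⟩) (lall (memL L) [7, 4, 5, 8, 4, 7, 5, 4]) = true := by decide +kernel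

theorem rot1_14 : T.rot 1 [4, 5, 8, 4, 7, 5, 4, 8] (sel (ones 275) ip1 14) = true := by decide +kernel

theorem rot1_14r : band (Rule.ok (2 * 6) EX RL ⟨1 :: [4, 5, 8, 4, 7, 5, 4, 8], [8, 6, 0], 8, false⟩) (lall (memL L) [4, 5, 8, 4, 7, 5, 4, 8]) = true := by decide +kernel

theorem rot1_15 : T.rot 1 [4, 3, 7, 4, 8, 3, 2, 4, 2] (sel (ones 275) ip1 15) = true := by decide +kernel

theorem rot1_15r : band (Rule.ok (2 * 6) EX RL ⟨1 :: [4, 3, 7, 4, 8, 3, 2, 4, 2], [], 11, true⟩) (lall (memL L) [4, 3, 7, 4, 8, 3, 2, 4, 2]) = true := by decide +kernel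

theorem rot1_16 : T.rot 1 [2, 4, 2, 3, 7, 4, 8, 3, 4] (sel (ones 275) ip1 16) = true := by decide +kernel

theorem rot1_16r : band (Rule.ok (2 * 6) EX RL ⟨1 :: [2, 4, 2, 3, 7, 4, 8, 3, 4], [0], 11, false⟩) (lall (memL L) [2, 4, 2, 3, 7, 4, 8, 3, 4]) = true := by decide +kernel

theorem rot1_17 : T.rot 1 [2, 7, 2, 5, 4, 7, 2, 8, 4, 5] (sel (ones 275) ip1 17) = true := by decide +kernel

theorem rot1_17r : band (Rule.ok (2 * 6) EX RL ⟨1 :: [2, 7, 2, 5, 4, 7, 2, 8, 4, 5], [8], 10, true⟩) (lall (memL L) [2, 7, 2, 5, 4, 7, 2, 8, 4, 5]) = true := by decide +kernel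

theorem rot1_18 : T.rot 1 [5, 4, 7, 2, 8, 4, 5, 2, 8, 2] (sel (ones 275) ip1 18) = true := by decide +kernel

theorem rot1_18r : band (Rule.ok (2 * 6) EX RL ⟨1 :: [5, 4, 7, 2, 8, 4, 5, 2, 8, 2], [8, 0], 10, false⟩) (lall (memL L) [5, 4, 7, 2, 8, 4, 5, 2, 8, 2]) = true := by decide +kernel

theorem rot1_19 : T.rot 1 [6, 5, 1, 6, 5, 1, 6, 5, 1, 6, 5, 1, 6, 5] (sel (ones 275) ip1 19) = true := by decide +kernel

theorem rot1_19r : band (Rule.ok (2 * 6) EX RL ⟨1 :: [6, 5, 1, 6, 5, 1, 6, 5, 1, 6, 5, 1, 6, 5], [0], 33, true⟩) (lall (memL L) [6, 5, 1, 6, 5, 1, 6, 5, 1, 6, 5, 1, 6, 5]) = true := by decide +kernel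

theorem rot1_20 : T.rot 1 [5, 6, 1, 5, 6, 1, 5, 6, 1, 5, 6, 1, 5, 6] (sel (ones 275) ip1 20) = true := by decide +kernel

theorem rot1_20r : band (Rule.ok (2 * 6) EX RL ⟨1 :: [5, 6, 1, 5, 6, 1, 5, 6, 1, 5, 6, 1, 5, 6], [], 33, false⟩) (lall (memL L) [5, 6, 1, 5, 6, 1, 5, 6, 1, 5, 6, 1, 5, 6]) = true := by decide +kernel

theorem cov1 : T.cover 1 [(sel (ones 275) ip1 1), (sel (ones 275) ip1 2), (sel (ones 275) ip1 3), (sel (ones 275) ip1 4), (sel (ones 275) ip1 5), (sel (ones 275) ip1 6), (sel (ones 275) ip1 7), (sel (ones 275) ip1 8), (sel (ones 275) ip1 9), (sel (ones 275) ip1 10), (sel (ones 275) ip1 11), (sel (ones 275) ip1 12), (sel (ones 275) ip1 13), (sel (ones 275) ip1 14), (sel (ones 275) ip1 15), (sel (ones 275) ip1 16), (sel (ones 275) ip1 17), (sel (ones 275) ip1 18), (sel (ones 275) ip1 19), (sel (ones 275) ip1 20), 1] = true := by decide +kernel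

theorem tl1 : T.treeLt 9 1 = true := by decide +kernel

theorem rot2_1 : T.rot 2 [2] (sel (ones 275) ip2 1) = true := by decide +kernel

theorem rot2_1r : band (Rule.ok (2 * 6) EX RL ⟨2 :: [2], [], 42, false⟩) (lall (memL L) [2]) = true := by decide +kernel

theorem rot2_2 : T.rot 2 [1, 2, 1] (sel (ones 275) ip2 2) = true := by decide +kernel

theorem rot2_2r : band (Rule.ok (2 * 6) EX RL ⟨2 :: [1, 2, 1], [], 7, false⟩) (lall (memL L) [1, 2, 1]) = true := by decide +kernel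

theorem rot2_3 : T.rot 2 [6, 2, 6] (sel (ones 275) ip2 3) = true := by decide +kernel

theorem rot2_3r : band (Rule.ok (2 * 6) EX RL ⟨2 :: [6, 2, 6], [], 26, true⟩) (lall (memL L) [6, 2, 6]) = true := by decide +kernel

theorem rot2_4 : T.rot 2 [7, 2, 7, 2, 7] (sel (ones 275) ip2 4) = true := by decide +kernel

theorem rot2_4r : band (Rule.ok (2 * 6) EX RL ⟨2 :: [7, 2, 7, 2, 7], [], 6, true⟩) (lall (memL L) [7, 2, 7, 2, 7]) = true := by decide +kernel

theorem rot2_5 : T.rot 2 [8, 2, 8, 2, 8] (sel (ones 275) ip2 5) = true := by decide +kernel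

theorem rot2_5r : band (Rule.ok (2 * 6) EX RL ⟨2 :: [8, 2, 8, 2, 8], [2], 6, false⟩) (lall (memL L) [8, 2, 8, 2, 8]) = true := by decide +kernel

theorem rot2_6 : T.rot 2 [5, 2, 5, 2, 5] (sel (ones 275) ip2 6) = true := by decide +kernel

theorem rot2_6r : band (Rule.ok (2 * 6) EX RL ⟨2 :: [5, 2, 5, 2, 5], [], 12, false⟩) (lall (memL L) [5, 2, 5, 2, 5]) = true := by decide +kernel

theorem rot2_7 : T.rot 2 [4, 3, 4, 3, 2, 4, 3] (sel (ones 275) ip2 7) = true := by decide +kernel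

theorem rot2_7r : band (Rule.ok (2 * 6) EX RL ⟨2 :: [4, 3, 4, 3, 2, 4, 3], [4], 3, true⟩) (lall (memL L) [4, 3, 4, 3, 2, 4, 3]) = true := by decide +kernel

theorem rot2_8 : T.rot 2 [4, 3, 2, 4, 3, 4, 3] (sel (ones 275) ip2 8) = true := by decide +kernel

theorem rot2_8r : band (Rule.ok (2 * 6) EX RL ⟨2 :: [4, 3, 2, 4, 3, 4, 3], [6, 2], 3, true⟩) (lall (memL L) [4, 3, 2, 4, 3, 4, 3]) = true := by decide +kernel

theorem rot2_9 : T.rot 2 [3, 4, 3, 4, 2, 3, 4] (sel (ones 275) ip2 9) = true := by decide +kernel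

theorem rot2_9r : band (Rule.ok (2 * 6) EX RL ⟨2 :: [3, 4, 3, 4, 2, 3, 4], [6], 3, false⟩) (lall (memL L) [3, 4, 3, 4, 2, 3, 4]) = true := by decide +kernel

theorem rot2_10 : T.rot 2 [3, 4, 2, 3, 4, 3, 4] (sel (ones 275) ip2 10) = true := by decide +kernel

theorem rot2_10r : band (Rule.ok (2 * 6) EX RL ⟨2 :: [3, 4, 2, 3, 4, 3, 4], [4, 2], 3, false⟩) (lall (memL L) [3, 4, 2, 3, 4, 3, 4]) = true := by decide +kernel

theorem rot2_11 : T.rot 2 [3, 2, 3, 2, 3, 2, 3] (sel (ones 275) ip2 11) = true := by decide +kernel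

theorem rot2_11r : band (Rule.ok (2 * 6) EX RL ⟨2 :: [3, 2, 3, 2, 3, 2, 3], [], 15, false⟩) (lall (memL L) [3, 2, 3, 2, 3, 2, 3]) = true := by decide +kernel

theorem rot2_12 : T.rot 2 [4, 2, 4, 2, 4, 2, 4] (sel (ones 275) ip2 12) = true := by decide +kernel

theorem rot2_12r : band (Rule.ok (2 * 6) EX RL ⟨2 :: [4, 2, 4, 2, 4, 2, 4], [], 16, false⟩) (lall (memL L) [4, 2, 4, 2, 4, 2, 4]) = true := by decide +kernel

theorem rot2_13 : T.rot 2 [4, 7, 4, 2, 7, 4, 2, 7] (sel (ones 275) ip2 13) = true := by decide +kernel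

theorem rot2_13r : band (Rule.ok (2 * 6) EX RL ⟨2 :: [4, 7, 4, 2, 7, 4, 2, 7], [], 4, true⟩) (lall (memL L) [4, 7, 4, 2, 7, 4, 2, 7]) = true := by decide +kernel

theorem rot2_14 : T.rot 2 [7, 4, 2, 7, 2, 4, 7, 4] (sel (ones 275) ip2 14) = true := by decide +kernel

theorem rot2_14r : band (Rule.ok (2 * 6) EX RL ⟨2 :: [7, 4, 2, 7, 2, 4, 7, 4], [2, 6, 13, 6], 4, true⟩) (lall (memL L) [7, 4, 2, 7, 2, 4, 7, 4]) = true := by decide +kernel

theorem rot2_15 : T.rot 2 [7, 2, 4, 7, 4, 2, 7, 4] (sel (ones 275) ip2 15) = true := by decide +kernel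

theorem rot2_15r : band (Rule.ok (2 * 6) EX RL ⟨2 :: [7, 2, 4, 7, 4, 2, 7, 4], [12, 2], 4, true⟩) (lall (memL L) [7, 2, 4, 7, 4, 2, 7, 4]) = true := by decide +kernel

theorem rot2_16 : T.rot 2 [4, 8, 2, 4, 8, 4, 2, 8] (sel (ones 275) ip2 16) = true := by decide +kernel

theorem rot2_16r : band (Rule.ok (2 * 6) EX RL ⟨2 :: [4, 8, 2, 4, 8, 4, 2, 8], [12], 4, false⟩) (lall (memL L) [4, 8, 2, 4, 8, 4, 2, 8]) = true := by decide +kernel

theorem rot2_17 : T.rot 2 [4, 8, 4, 2, 8, 2, 4, 8] (sel (ones 275) ip2 17) = true := by decide +kernel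

theorem rot2_17r : band (Rule.ok (2 * 6) EX RL ⟨2 :: [4, 8, 4, 2, 8, 2, 4, 8], [12, 2, 6, 12], 4, false⟩) (lall (memL L) [4, 8, 4, 2, 8, 2, 4, 8]) = true := by decide +kernel

theorem rot2_18 : T.rot 2 [8, 2, 4, 8, 2, 4, 8, 4] (sel (ones 275) ip2 18) = true := by decide +kernel

theorem rot2_18r : band (Rule.ok (2 * 6) EX RL ⟨2 :: [8, 2, 4, 8, 2, 4, 8, 4], [2], 4, false⟩) (lall (memL L) [8, 2, 4, 8, 2, 4, 8, 4]) = true := by decide +kernel

theorem rot2_19 : T.rot 2 [4, 2, 4, 5, 3, 2, 3, 2, 5] (sel (ones 275) ip2 19) = true := by decide +kernel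

theorem rot2_19r : band (Rule.ok (2 * 6) EX RL ⟨2 :: [4, 2, 4, 5, 3, 2, 3, 2, 5], [8], 9, true⟩) (lall (memL L) [4, 2, 4, 5, 3, 2, 3, 2, 5]) = true := by decide +kernel

theorem rot2_20 : T.rot 2 [4, 5, 3, 2, 3, 2, 5, 2, 4] (sel (ones 275) ip2 20) = true := by decide +kernel

theorem rot2_20r : band (Rule.ok (2 * 6) EX RL ⟨2 :: [4, 5, 3, 2, 3, 2, 5, 2, 4], [8, 2, 6], 9, true⟩) (lall (memL L) [4, 5, 3, 2, 3, 2, 5, 2, 4]) = true := by decide +kernel

theorem rot2_21 : T.rot 2 [3, 2, 5, 2, 4, 2, 4, 5, 3] (sel (ones 275) ip2 21) = true := by decide +kernel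

theorem rot2_21r : band (Rule.ok (2 * 6) EX RL ⟨2 :: [3, 2, 5, 2, 4, 2, 4, 5, 3], [2, 4, 2], 9, true⟩) (lall (memL L) [3, 2, 5, 2, 4, 2, 4, 5, 3]) = true := by decide +kernel

theorem rot2_22 : T.rot 2 [5, 2, 4, 2, 4, 5, 3, 2, 3] (sel (ones 275) ip2 22) = true := by decide +kernel

theorem rot2_22r : band (Rule.ok (2 * 6) EX RL ⟨2 :: [5, 2, 4, 2, 4, 5, 3, 2, 3], [2], 9, true⟩) (lall (memL L) [5, 2, 4, 2, 4, 5, 3, 2, 3]) = true := by decide +kernel

theorem rot2_23 : T.rot 2 [3, 2, 3, 5, 4, 2, 4, 2, 5] (sel (ones 275) ip2 23) = true := by decide +kernel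

theorem rot2_23r : band (Rule.ok (2 * 6) EX RL ⟨2 :: [3, 2, 3, 5, 4, 2, 4, 2, 5], [], 9, false⟩) (lall (memL L) [3, 2, 3, 5, 4, 2, 4, 2, 5]) = true := by decide +kernel

theorem rot2_24 : T.rot 2 [3, 5, 4, 2, 4, 2, 5, 2, 3] (sel (ones 275) ip2 24) = true := by decide +kernel

theorem rot2_24r : band (Rule.ok (2 * 6) EX RL ⟨2 :: [3, 5, 4, 2, 4, 2, 5, 2, 3], [2, 4], 9, false⟩) (lall (memL L) [3, 5, 4, 2, 4, 2, 5, 2, 3]) = true := by decide +kernel

theorem rot2_25 : T.rot 2 [4, 2, 5, 2, 3, 2, 3, 5, 4] (sel (ones 275) ip2 25) = true := by decide +kernel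

theorem rot2_25r : band (Rule.ok (2 * 6) EX RL ⟨2 :: [4, 2, 5, 2, 3, 2, 3, 5, 4], [8, 2, 6, 2], 9, false⟩) (lall (memL L) [4, 2, 5, 2, 3, 2, 3, 5, 4]) = true := by decide +kernel

theorem rot2_26 : T.rot 2 [5, 2, 3, 2, 3, 5, 4, 2, 4] (sel (ones 275) ip2 26) = true := by decide +kernel

theorem rot2_26r : band (Rule.ok (2 * 6) EX RL ⟨2 :: [5, 2, 3, 2, 3, 5, 4, 2, 4], [8, 2], 9, false⟩) (lall (memL L) [5, 2, 3, 2, 3, 5, 4, 2, 4]) = true := by decide +kernel

theorem rot2_27 : T.rot 2 [4, 2, 1, 4, 3, 7, 4, 8, 3] (sel (ones 275) ip2 27) = true := by decide +kernel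

theorem rot2_27r : band (Rule.ok (2 * 6) EX RL ⟨2 :: [4, 2, 1, 4, 3, 7, 4, 8, 3], [2, 6, 2], 11, true⟩) (lall (memL L) [4, 2, 1, 4, 3, 7, 4, 8, 3]) = true := by decide +kernel

theorem rot2_28 : T.rot 2 [1, 4, 3, 7, 4, 8, 3, 2, 4] (sel (ones 275) ip2 28) = true := by decide +kernel

theorem rot2_28r : band (Rule.ok (2 * 6) EX RL ⟨2 :: [1, 4, 3, 7, 4, 8, 3, 2, 4], [2], 11, true⟩) (lall (memL L) [1, 4, 3, 7, 4, 8, 3, 2, 4]) = true := by decide +kernel

theorem rot2_29 : T.rot 2 [4, 2, 3, 7, 4, 8, 3, 4, 1] (sel (ones 275) ip2 29) = true := by decide +kernel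

theorem rot2_29r : band (Rule.ok (2 * 6) EX RL ⟨2 :: [4, 2, 3, 7, 4, 8, 3, 4, 1], [], 11, false⟩) (lall (memL L) [4, 2, 3, 7, 4, 8, 3, 4, 1]) = true := by decide +kernel

theorem rot2_30 : T.rot 2 [3, 7, 4, 8, 3, 4, 1, 2, 4] (sel (ones 275) ip2 30) = true := by decide +kernel

theorem rot2_30r : band (Rule.ok (2 * 6) EX RL ⟨2 :: [3, 7, 4, 8, 3, 4, 1, 2, 4], [2, 6], 11, false⟩) (lall (memL L) [3, 7, 4, 8, 3, 4, 1, 2, 4]) = true := by decide +kernel

theorem rot2_31 : T.rot 2 [7, 2, 5, 4, 7, 2, 8, 4, 5, 1] (sel (ones 275) ip2 31) = true := by decide +kernel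

theorem rot2_31r : band (Rule.ok (2 * 6) EX RL ⟨2 :: [7, 2, 5, 4, 7, 2, 8, 4, 5, 1], [8, 0], 10, true⟩) (lall (memL L) [7, 2, 5, 4, 7, 2, 8, 4, 5, 1]) = true := by decide +kernel

theorem rot2_32 : T.rot 2 [5, 4, 7, 2, 8, 4, 5, 1, 2, 7] (sel (ones 275) ip2 32) = true := by decide +kernel

theorem rot2_32r : band (Rule.ok (2 * 6) EX RL ⟨2 :: [5, 4, 7, 2, 8, 4, 5, 1, 2, 7], [8, 0, 2, 13], 10, true⟩) (lall (memL L) [5, 4, 7, 2, 8, 4, 5, 1, 2, 7]) = true := by decide +kernel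

theorem rot2_33 : T.rot 2 [8, 4, 5, 1, 2, 7, 2, 5, 4, 7] (sel (ones 275) ip2 33) = true := by decide +kernel

theorem rot2_33r : band (Rule.ok (2 * 6) EX RL ⟨2 :: [8, 4, 5, 1, 2, 7, 2, 5, 4, 7], [6, 13, 2], 10, true⟩) (lall (memL L) [8, 4, 5, 1, 2, 7, 2, 5, 4, 7]) = true := by decide +kernel

theorem rot2_34 : T.rot 2 [8, 2, 1, 5, 4, 7, 2, 8, 4, 5] (sel (ones 275) ip2 34) = true := by decide +kernel

theorem rot2_34r : band (Rule.ok (2 * 6) EX RL ⟨2 :: [8, 2, 1, 5, 4, 7, 2, 8, 4, 5], [8, 0, 2, 13, 2], 10, false⟩) (lall (memL L) [8, 2, 1, 5, 4, 7, 2, 8, 4, 5]) = true := by decide +kernel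

theorem rot2_35 : T.rot 2 [1, 5, 4, 7, 2, 8, 4, 5, 2, 8] (sel (ones 275) ip2 35) = true := by decide +kernel

theorem rot2_35r : band (Rule.ok (2 * 6) EX RL ⟨2 :: [1, 5, 4, 7, 2, 8, 4, 5, 2, 8], [8, 0, 2], 10, false⟩) (lall (memL L) [1, 5, 4, 7, 2, 8, 4, 5, 2, 8]) = true := by decide +kernel

theorem rot2_36 : T.rot 2 [4, 5, 3, 8, 4, 2, 5, 3, 4, 2, 7, 3, 5] (sel (ones 275) ip2 36) = true := by decide +kernel

theorem rot2_36r : band (Rule.ok (2 * 6) EX RL ⟨2 :: [4, 5, 3, 8, 4, 2, 5, 3, 4, 2, 7, 3, 5], [8], 13, true⟩) (lall (memL L) [4, 5, 3, 8, 4, 2, 5, 3, 4, 2, 7, 3, 5]) = true := by decide +kernel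

theorem rot2_37 : T.rot 2 [5, 3, 4, 2, 7, 3, 5, 2, 4, 5, 3, 8, 4] (sel (ones 275) ip2 37) = true := by decide +kernel

theorem rot2_37r : band (Rule.ok (2 * 6) EX RL ⟨2 :: [5, 3, 4, 2, 7, 3, 5, 2, 4, 5, 3, 8, 4], [4, 12, 2, 6, 4, 8, 2], 13, true⟩) (lall (memL L) [5, 3, 4, 2, 7, 3, 5, 2, 4, 5, 3, 8, 4]) = true := by decide +kernel

theorem rot2_38 : T.rot 2 [7, 3, 5, 2, 4, 5, 3, 8, 4, 2, 5, 3, 4] (sel (ones 275) ip2 38) = true := by decide +kernel

theorem rot2_38r : band (Rule.ok (2 * 6) EX RL ⟨2 :: [7, 3, 5, 2, 4, 5, 3, 8, 4, 2, 5, 3, 4], [4, 12, 2], 13, true⟩) (lall (memL L) [7, 3, 5, 2, 4, 5, 3, 8, 4, 2, 5, 3, 4]) = true := by decide +kernel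

theorem rot2_39 : T.rot 2 [4, 7, 3, 5, 4, 2, 5, 3, 8, 2, 4, 3, 5] (sel (ones 275) ip2 39) = true := by decide +kernel

theorem rot2_39r : band (Rule.ok (2 * 6) EX RL ⟨2 :: [4, 7, 3, 5, 4, 2, 5, 3, 8, 2, 4, 3, 5], [4, 12, 2, 6, 4, 8], 13, false⟩) (lall (memL L) [4, 7, 3, 5, 4, 2, 5, 3, 8, 2, 4, 3, 5]) = true := by decide +kernel

theorem rot2_40 : T.rot 2 [5, 3, 8, 2, 4, 3, 5, 2, 4, 7, 3, 5, 4] (sel (ones 275) ip2 40) = true := by decide +kernel

theorem rot2_40r : band (Rule.ok (2 * 6) EX RL ⟨2 :: [5, 3, 8, 2, 4, 3, 5, 2, 4, 7, 3, 5, 4], [8, 2], 13, false⟩) (lall (memL L) [5, 3, 8, 2, 4, 3, 5, 2, 4, 7, 3, 5, 4]) = true := by decide +kernel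

theorem rot2_41 : T.rot 2 [6, 4, 2, 6, 4, 2, 6, 4, 2, 6, 4, 2, 6, 4] (sel (ones 275) ip2 41) = true := by decide +kernel

theorem rot2_41r : band (Rule.ok (2 * 6) EX RL ⟨2 :: [6, 4, 2, 6, 4, 2, 6, 4, 2, 6, 4, 2, 6, 4], [2], 34, true⟩) (lall (memL L) [6, 4, 2, 6, 4, 2, 6, 4, 2, 6, 4, 2, 6, 4]) = true := by decide +kernel

theorem rot2_42 : T.rot 2 [4, 6, 2, 4, 6, 2, 4, 6, 2, 4, 6, 2, 4, 6] (sel (ones 275) ip2 42) = true := by decide +kernel

theorem rot2_42r : band (Rule.ok (2 * 6) EX RL ⟨2 :: [4, 6, 2, 4, 6, 2, 4, 6, 2, 4, 6, 2, 4, 6], [], 34, false⟩) (lall (memL L) [4, 6, 2, 4, 6, 2, 4, 6, 2, 4, 6, 2, 4, 6]) = true := by decide +kernel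

theorem rot2_43 : T.rot 2 [6, 5, 2, 6, 5, 2, 6, 5, 2, 6, 5, 2, 6, 5] (sel (ones 275) ip2 43) = true := by decide +kernel

theorem rot2_43r : band (Rule.ok (2 * 6) EX RL ⟨2 :: [6, 5, 2, 6, 5, 2, 6, 5, 2, 6, 5, 2, 6, 5], [2], 37, true⟩) (lall (memL L) [6, 5, 2, 6, 5, 2, 6, 5, 2, 6, 5, 2, 6, 5]) = true := by decide +kernel

theorem rot2_44 : T.rot 2 [5, 6, 2, 5, 6, 2, 5, 6, 2, 5, 6, 2, 5, 6] (sel (ones 275) ip2 44) = true := by decide +kernel

theorem rot2_44r : band (Rule.ok (2 * 6) EX RL ⟨2 :: [5, 6, 2, 5, 6, 2, 5, 6, 2, 5, 6, 2, 5, 6], [], 37, false⟩) (lall (memL L) [5, 6, 2, 5, 6, 2, 5, 6, 2, 5, 6, 2, 5, 6]) = true := by decide +kernel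

theorem ep0a : T.treePath [2, 3] (Nat.shiftLeft 1 3) 1 = true := by decide +kernel

theorem ep0b : T.treePath [3, 5] (Nat.shiftLeft 1 10) 1 = true := by decide +kernel

theorem ep0c : band (lall (fun z => Nat.ble z 255) ([2, 3] ++ 2 :: [5, 3])) (concl F IV 1270 0xc000260047a0000200000005 (encA ([2, 3] ++ 2 :: [5, 3]) 0)) = true := by decide +kernel

theorem ep0d : band (Rule.ok (2 * 6) EX [] ⟨lapp [3, 5] [5, 3], [], 0, false⟩) (band (lall (memL L) [2, 3]) (lall (memL L) [3, 5])) = true := by decide +kernel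

theorem cov2 : T.cover 2 [(sel (ones 275) ip2 1), (sel (ones 275) ip2 2), (sel (ones 275) ip2 3), (sel (ones 275) ip2 4), (sel (ones 275) ip2 5), (sel (ones 275) ip2 6), (sel (ones 275) ip2 7), (sel (ones 275) ip2 8), (sel (ones 275) ip2 9), (sel (ones 275) ip2 10), (sel (ones 275) ip2 11), (sel (ones 275) ip2 12), (sel (ones 275) ip2 13), (sel (ones 275) ip2 14), (sel (ones 275) ip2 15), (sel (ones 275) ip2 16), (sel (ones 275) ip2 17), (sel (ones 275) ip2 18), (sel (ones 275) ip2 19), (sel (ones 275) ip2 20), (sel (ones 275) ip2 21), (sel (ones 275) ip2 22), (sel (ones 275) ip2 23), (sel (ones 275) ip2 24), (sel (ones 275) ip2 25), (sel (ones 275) ip2 26), (sel (ones 275) ip2 27), (sel (ones 275) ip2 28), (sel (ones 275) ip2 29), (sel (ones 275) ip2 30), (sel (ones 275) ip2 31), (sel (ones 275) ip2 32), (sel (ones 275) ip2 33), (sel (ones 275) ip2 34), (sel (ones 275) ip2 35), (sel (ones 275) ip2 36), (sel (ones 275) ip2 37), (sel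 (ones 275) ip2 38), (sel (ones 275) ip2 39), (sel (ones 275) ip2 40), (sel (ones 275) ip2 41), (sel (ones 275) ip2 42), (sel (ones 275) ip2 43), (sel (ones 275) ip2 44), (Nat.shiftLeft 1 3)] = true := by decide +kernel

theorem tl2 : T.treeLt 9 2 = true := by decide +kernel

theorem rot3_1 : T.rot 3 [3] (sel (ones 275) ip3 1) = true := by decide +kernel

theorem rot3_1r : band (Rule.ok (2 * 6) EX RL ⟨3 :: [3], [], 42, false⟩) (lall (memL L) [3]) = true := by decide +kernel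

theorem rot3_2 : T.rot 3 [1, 3, 1] (sel (ones 275) ip3 2) = true := by decide +kernel

theorem rot3_2r : band (Rule.ok (2 * 6) EX RL ⟨3 :: [1, 3, 1], [], 17, false⟩) (lall (memL L) [1, 3, 1]) = true := by decide +kernel

theorem rot3_3 : T.rot 3 [7, 3, 7, 3, 7] (sel (ones 275) ip3 3) = true := by decide +kernel

theorem rot3_3r : band (Rule.ok (2 * 6) EX RL ⟨3 :: [7, 3, 7, 3, 7], [], 1, true⟩) (lall (memL L) [7, 3, 7, 3, 7]) = true := by decide +kernel

theorem rot3_4 : T.rot 3 [8, 3, 8, 3, 8] (sel (ones 275) ip3 4) = true := by decide +kernel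

theorem rot3_4r : band (Rule.ok (2 * 6) EX RL ⟨3 :: [8, 3, 8, 3, 8], [4], 1, false⟩) (lall (memL L) [8, 3, 8, 3, 8]) = true := by decide +kernel

theorem rot3_5 : T.rot 3 [4, 3, 4, 3, 4] (sel (ones 275) ip3 5) = true := by decide +kernel

theorem rot3_5r : band (Rule.ok (2 * 6) EX RL ⟨3 :: [4, 3, 4, 3, 4], [], 18, false⟩) (lall (memL L) [4, 3, 4, 3, 4]) = true := by decide +kernel

theorem rot3_6 : T.rot 3 [8, 6, 3, 6, 7] (sel (ones 275) ip3 6) = true := by decide +kernel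

theorem rot3_6r : band (Rule.ok (2 * 6) EX RL ⟨3 :: [8, 6, 3, 6, 7], [13], 28, true⟩) (lall (memL L) [8, 6, 3, 6, 7]) = true := by decide +kernel

theorem rot3_7 : T.rot 3 [6, 7, 3, 8, 6] (sel (ones 275) ip3 7) = true := by decide +kernel

theorem rot3_7r : band (Rule.ok (2 * 6) EX RL ⟨3 :: [6, 7, 3, 8, 6], [10], 28, false⟩) (lall (memL L) [6, 7, 3, 8, 6]) = true := by decide +kernel

theorem rot3_8 : T.rot 3 [2, 4, 3, 4, 3, 2, 4] (sel (ones 275) ip3 8) = true := by decide +kernel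

theorem rot3_8r : band (Rule.ok (2 * 6) EX RL ⟨3 :: [2, 4, 3, 4, 3, 2, 4], [], 3, true⟩) (lall (memL L) [2, 4, 3, 4, 3, 2, 4]) = true := by decide +kernel

theorem rot3_9 : T.rot 3 [4, 3, 2, 4, 3, 2, 4] (sel (ones 275) ip3 9) = true := by decide +kernel

theorem rot3_9r : band (Rule.ok (2 * 6) EX RL ⟨3 :: [4, 3, 2, 4, 3, 2, 4], [4, 2, 6], 3, true⟩) (lall (memL L) [4, 3, 2, 4, 3, 2, 4]) = true := by decide +kernel

theorem rot3_10 : T.rot 3 [4, 3, 4, 2, 3, 4, 2] (sel (ones 275) ip3 10) = true := by decide +kernel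

theorem rot3_10r : band (Rule.ok (2 * 6) EX RL ⟨3 :: [4, 3, 4, 2, 3, 4, 2], [6, 2], 3, false⟩) (lall (memL L) [4, 3, 4, 2, 3, 4, 2]) = true := by decide +kernel

theorem rot3_11 : T.rot 3 [4, 2, 3, 4, 2, 3, 4] (sel (ones 275) ip3 11) = true := by decide +kernel

theorem rot3_11r : band (Rule.ok (2 * 6) EX RL ⟨3 :: [4, 2, 3, 4, 2, 3, 4], [4, 2, 6, 4], 3, false⟩) (lall (memL L) [4, 2, 3, 4, 2, 3, 4]) = true := by decide +kernel

theorem rot3_12 : T.rot 3 [4, 2, 3, 4, 3, 4, 2] (sel (ones 275) ip3 12) = true := by decide +kernel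

theorem rot3_12r : band (Rule.ok (2 * 6) EX RL ⟨3 :: [4, 2, 3, 4, 3, 4, 2], [4], 3, false⟩) (lall (memL L) [4, 2, 3, 4, 3, 4, 2]) = true := by decide +kernel

theorem rot3_13 : T.rot 3 [2, 3, 2, 3, 2, 3, 2] (sel (ones 275) ip3 13) = true := by decide +kernel

theorem rot3_13r : band (Rule.ok (2 * 6) EX RL ⟨3 :: [2, 3, 2, 3, 2, 3, 2], [], 15, true⟩) (lall (memL L) [2, 3, 2, 3, 2, 3, 2]) = true := by decide +kernel

theorem rot3_14 : T.rot 3 [5, 3, 5, 3, 5, 3, 5] (sel (ones 275) ip3 14) = true := by decide +kernel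

theorem rot3_14r : band (Rule.ok (2 * 6) EX RL ⟨3 :: [5, 3, 5, 3, 5, 3, 5], [], 19, false⟩) (lall (memL L) [5, 3, 5, 3, 5, 3, 5]) = true := by decide +kernel

theorem rot3_15 : T.rot 3 [4, 7, 4, 3, 8, 4, 3, 7, 4] (sel (ones 275) ip3 15) = true := by decide +kernel

theorem rot3_15r : band (Rule.ok (2 * 6) EX RL ⟨3 :: [4, 7, 4, 3, 8, 4, 3, 7, 4], [], 5, true⟩) (lall (memL L) [4, 7, 4, 3, 8, 4, 3, 7, 4]) = true := by decide +kernel

theorem rot3_16 : T.rot 3 [8, 4, 3, 7, 4, 3, 4, 7, 4] (sel (ones 275) ip3 16) = true := by decide +kernel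

theorem rot3_16r : band (Rule.ok (2 * 6) EX RL ⟨3 :: [8, 4, 3, 7, 4, 3, 4, 7, 4], [4, 6, 13, 6], 5, true⟩) (lall (memL L) [8, 4, 3, 7, 4, 3, 4, 7, 4]) = true := by decide +kernel

theorem rot3_17 : T.rot 3 [7, 4, 3, 4, 7, 4, 3, 8, 4] (sel (ones 275) ip3 17) = true := by decide +kernel

theorem rot3_17r : band (Rule.ok (2 * 6) EX RL ⟨3 :: [7, 4, 3, 4, 7, 4, 3, 8, 4], [6, 12, 4], 5, true⟩) (lall (memL L) [7, 4, 3, 4, 7, 4, 3, 8, 4]) = true := by decide +kernel

theorem rot3_18 : T.rot 3 [4, 7, 3, 4, 8, 4, 3, 4, 8] (sel (ones 275) ip3 18) = true := by decide +kernel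

theorem rot3_18r : band (Rule.ok (2 * 6) EX RL ⟨3 :: [4, 7, 3, 4, 8, 4, 3, 4, 8], [6, 12], 5, false⟩) (lall (memL L) [4, 7, 3, 4, 8, 4, 3, 4, 8]) = true := by decide +kernel

theorem rot3_19 : T.rot 3 [4, 8, 4, 3, 4, 8, 3, 4, 7] (sel (ones 275) ip3 19) = true := by decide +kernel

theorem rot3_19r : band (Rule.ok (2 * 6) EX RL ⟨3 :: [4, 8, 4, 3, 4, 8, 3, 4, 7], [4, 6, 13, 6, 4], 5, false⟩) (lall (memL L) [4, 8, 4, 3, 4, 8, 3, 4, 7]) = true := by decide +kernel

theorem rot3_20 : T.rot 3 [4, 8, 3, 4, 7, 3, 4, 8, 4] (sel (ones 275) ip3 20) = true := by decide +kernel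

theorem rot3_20r : band (Rule.ok (2 * 6) EX RL ⟨3 :: [4, 8, 3, 4, 7, 3, 4, 8, 4], [4], 5, false⟩) (lall (memL L) [4, 8, 3, 4, 7, 3, 4, 8, 4]) = true := by decide +kernel

theorem rot3_21 : T.rot 3 [2, 3, 2, 5, 2, 4, 2, 4, 5] (sel (ones 275) ip3 21) = true := by decide +kernel

theorem rot3_21r : band (Rule.ok (2 * 6) EX RL ⟨3 :: [2, 3, 2, 5, 2, 4, 2, 4, 5], [2, 4, 2, 4], 9, true⟩) (lall (memL L) [2, 3, 2, 5, 2, 4, 2, 4, 5]) = true := by decide +kernel

theorem rot3_22 : T.rot 3 [2, 5, 2, 4, 2, 4, 5, 3, 2] (sel (ones 275) ip3 22) = true := by decide +kernel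

theorem rot3_22r : band (Rule.ok (2 * 6) EX RL ⟨3 :: [2, 5, 2, 4, 2, 4, 5, 3, 2], [2, 4], 9, true⟩) (lall (memL L) [2, 5, 2, 4, 2, 4, 5, 3, 2]) = true := by decide +kernel

theorem rot3_23 : T.rot 3 [2, 3, 5, 4, 2, 4, 2, 5, 2] (sel (ones 275) ip3 23) = true := by decide +kernel

theorem rot3_23r : band (Rule.ok (2 * 6) EX RL ⟨3 :: [2, 3, 5, 4, 2, 4, 2, 5, 2], [2], 9, false⟩) (lall (memL L) [2, 3, 5, 4, 2, 4, 2, 5, 2]) = true := by decide +kernel

theorem rot3_24 : T.rot 3 [5, 4, 2, 4, 2, 5, 2, 3, 2] (sel (ones 275) ip3 24) = true := by decide +kernel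

theorem rot3_24r : band (Rule.ok (2 * 6) EX RL ⟨3 :: [5, 4, 2, 4, 2, 5, 2, 3, 2], [2, 4, 2], 9, false⟩) (lall (memL L) [5, 4, 2, 4, 2, 5, 2, 3, 2]) = true := by decide +kernel

theorem rot3_25 : T.rot 3 [7, 4, 8, 3, 2, 4, 2, 1, 4] (sel (ones 275) ip3 25) = true := by decide +kernel

theorem rot3_25r : band (Rule.ok (2 * 6) EX RL ⟨3 :: [7, 4, 8, 3, 2, 4, 2, 1, 4], [0, 6], 11, true⟩) (lall (memL L) [7, 4, 8, 3, 2, 4, 2, 1, 4]) = true := by decide +kernel

theorem rot3_26 : T.rot 3 [2, 4, 2, 1, 4, 3, 7, 4, 8] (sel (ones 275) ip3 26) = true := by decide +kernel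

theorem rot3_26r : band (Rule.ok (2 * 6) EX RL ⟨3 :: [2, 4, 2, 1, 4, 3, 7, 4, 8], [2, 6, 2, 4], 11, true⟩) (lall (memL L) [2, 4, 2, 1, 4, 3, 7, 4, 8]) = true := by decide +kernel

theorem rot3_27 : T.rot 3 [4, 1, 2, 4, 2, 3, 7, 4, 8] (sel (ones 275) ip3 27) = true := by decide +kernel

theorem rot3_27r : band (Rule.ok (2 * 6) EX RL ⟨3 :: [4, 1, 2, 4, 2, 3, 7, 4, 8], [0, 6, 4], 11, false⟩) (lall (memL L) [4, 1, 2, 4, 2, 3, 7, 4, 8]) = true := by decide +kernel

theorem rot3_28 : T.rot 3 [8, 4, 2, 5, 3, 4, 2, 7, 3, 5, 2, 4, 5] (sel (ones 275) ip3 28) = true := by decide +kernel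

theorem rot3_28r : band (Rule.ok (2 * 6) EX RL ⟨3 :: [8, 4, 2, 5, 3, 4, 2, 7, 3, 5, 2, 4, 5], [8, 2, 6, 8], 13, true⟩) (lall (memL L) [8, 4, 2, 5, 3, 4, 2, 7, 3, 5, 2, 4, 5]) = true := by decide +kernel

theorem rot3_29 : T.rot 3 [4, 2, 7, 3, 5, 2, 4, 5, 3, 8, 4, 2, 5] (sel (ones 275) ip3 29) = true := by decide +kernel

theorem rot3_29r : band (Rule.ok (2 * 6) EX RL ⟨3 :: [4, 2, 7, 3, 5, 2, 4, 5, 3, 8, 4, 2, 5], [4, 12, 2, 6, 4], 13, true⟩) (lall (memL L) [4, 2, 7, 3, 5, 2, 4, 5, 3, 8, 4, 2, 5]) = true := by decide +kernel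

theorem rot3_30 : T.rot 3 [5, 2, 4, 5, 3, 8, 4, 2, 5, 3, 4, 2, 7] (sel (ones 275) ip3 30) = true := by decide +kernel

theorem rot3_30r : band (Rule.ok (2 * 6) EX RL ⟨3 :: [5, 2, 4, 5, 3, 8, 4, 2, 5, 3, 4, 2, 7], [4], 13, true⟩) (lall (memL L) [5, 2, 4, 5, 3, 8, 4, 2, 5, 3, 4, 2, 7]) = true := by decide +kernel

theorem rot3_31 : T.rot 3 [8, 2, 4, 3, 5, 2, 4, 7, 3, 5, 4, 2, 5] (sel (ones 275) ip3 31) = true := by decide +kernel

theorem rot3_31r : band (Rule.ok (2 * 6) EX RL ⟨3 :: [8, 2, 4, 3, 5, 2, 4, 7, 3, 5, 4, 2, 5], [], 13, false⟩) (lall (memL L) [8, 2, 4, 3, 5, 2, 4, 7, 3, 5, 4, 2, 5]) = true := by decide +kernel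

theorem rot3_32 : T.rot 3 [5, 2, 4, 7, 3, 5, 4, 2, 5, 3, 8, 2, 4] (sel (ones 275) ip3 32) = true := by decide +kernel

theorem rot3_32r : band (Rule.ok (2 * 6) EX RL ⟨3 :: [5, 2, 4, 7, 3, 5, 4, 2, 5, 3, 8, 2, 4], [4, 12, 2, 6], 13, false⟩) (lall (memL L) [5, 2, 4, 7, 3, 5, 4, 2, 5, 3, 8, 2, 4]) = true := by decide +kernel

theorem rot3_33 : T.rot 3 [5, 4, 2, 5, 3, 8, 2, 4, 3, 5, 2, 4, 7] (sel (ones 275) ip3 33) = true := by decide +kernel

theorem rot3_33r : band (Rule.ok (2 * 6) EX RL ⟨3 :: [5, 4, 2, 5, 3, 8, 2, 4, 3, 5, 2, 4, 7], [8, 2, 6, 8, 4], 13, false⟩) (lall (memL L) [5, 4, 2, 5, 3, 8, 2, 4, 3, 5, 2, 4, 7]) = true := by decide +kernel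

theorem rot3_34 : T.rot 3 [6, 5, 3, 6, 5, 3, 6, 5, 3, 6, 5, 3, 6, 5] (sel (ones 275) ip3 34) = true := by decide +kernel

theorem rot3_34r : band (Rule.ok (2 * 6) EX RL ⟨3 :: [6, 5, 3, 6, 5, 3, 6, 5, 3, 6, 5, 3, 6, 5], [4], 38, true⟩) (lall (memL L) [6, 5, 3, 6, 5, 3, 6, 5, 3, 6, 5, 3, 6, 5]) = true := by decide +kernel

theorem rot3_35 : T.rot 3 [5, 6, 3, 5, 6, 3, 5, 6, 3, 5, 6, 3, 5, 6] (sel (ones 275) ip3 35) = true := by decide +kernel

theorem rot3_35r : band (Rule.ok (2 * 6) EX RL ⟨3 :: [5, 6, 3, 5, 6, 3, 5, 6, 3, 5, 6, 3, 5, 6], [], 38, false⟩) (lall (memL L) [5, 6, 3, 5, 6, 3, 5, 6, 3, 5, 6, 3, 5, 6]) = true := by decide +kernel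

theorem cov3 : T.cover 3 [(sel (ones 275) ip3 1), (sel (ones 275) ip3 2), (sel (ones 275) ip3 3), (sel (ones 275) ip3 4), (sel (ones 275) ip3 5), (sel (ones 275) ip3 6), (sel (ones 275) ip3 7), (sel (ones 275) ip3 8), (sel (ones 275) ip3 9), (sel (ones 275) ip3 10), (sel (ones 275) ip3 11), (sel (ones 275) ip3 12), (sel (ones 275) ip3 13), (sel (ones 275) ip3 14), (sel (ones 275) ip3 15), (sel (ones 275) ip3 16), (sel (ones 275) ip3 17), (sel (ones 275) ip3 18), (sel (ones 275) ip3 19), (sel (ones 275) ip3 20), (sel (ones 275) ip3 21), (sel (ones 275) ip3 22), (sel (ones 275) ip3 23), (sel (ones 275) ip3 24), (sel (ones 275) ip3 25), (sel (ones 275) ip3 26), (sel (ones 275) ip3 27), (sel (ones 275) ip3 28), (sel (ones 275) ip3 29), (sel (ones 275) ip3 30), (sel (ones 275) ip3 31), (sel (ones 275) ip3 32), (sel (ones 275) ip3 33), (sel (ones 275) ip3 34), (sel (ones 275) ip3 35)] = true := by decide +kernel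

theorem tl3 : T.treeLt 9 3 = true := by decide +kernel

theorem rot4_1 : T.rot 4 [4] (sel (ones 275) ip4 1) = true := by decide +kernel

theorem rot4_1r : band (Rule.ok (2 * 6) EX RL ⟨4 :: [4], [], 42, false⟩) (lall (memL L) [4]) = true := by decide +kernel

theorem rot4_2 : T.rot 4 [7, 4, 7, 4, 7] (sel (ones 275) ip4 2) = true := by decide +kernel

theorem rot4_2r : band (Rule.ok (2 * 6) EX RL ⟨4 :: [7, 4, 7, 4, 7], [], 2, true⟩) (lall (memL L) [7, 4, 7, 4, 7]) = true := by decide +kernel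

theorem rot4_3 : T.rot 4 [8, 4, 8, 4, 8] (sel (ones 275) ip4 3) = true := by decide +kernel

theorem rot4_3r : band (Rule.ok (2 * 6) EX RL ⟨4 :: [8, 4, 8, 4, 8], [6], 2, false⟩) (lall (memL L) [8, 4, 8, 4, 8]) = true := by decide +kernel

theorem rot4_4 : T.rot 4 [3, 4, 3, 4, 3] (sel (ones 275) ip4 4) = true := by decide +kernel

theorem rot4_4r : band (Rule.ok (2 * 6) EX RL ⟨4 :: [3, 4, 3, 4, 3], [], 18, true⟩) (lall (memL L) [3, 4, 3, 4, 3]) = true := by decide +kernel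

theorem rot4_5 : T.rot 4 [5, 4, 5, 4, 5] (sel (ones 275) ip4 5) = true := by decide +kernel

theorem rot4_5r : band (Rule.ok (2 * 6) EX RL ⟨4 :: [5, 4, 5, 4, 5], [], 21, false⟩) (lall (memL L) [5, 4, 5, 4, 5]) = true := by decide +kernel

theorem rot4_6 : T.rot 4 [7, 1, 4, 7, 1] (sel (ones 275) ip4 6) = true := by decide +kernel

theorem rot4_6r : band (Rule.ok (2 * 6) EX RL ⟨4 :: [7, 1, 4, 7, 1], [6], 24, true⟩) (lall (memL L) [7, 1, 4, 7, 1]) = true := by decide +kernel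

theorem rot4_7 : T.rot 4 [1, 8, 4, 1, 8] (sel (ones 275) ip4 7) = true := by decide +kernel

theorem rot4_7r : band (Rule.ok (2 * 6) EX RL ⟨4 :: [1, 8, 4, 1, 8], [], 24, false⟩) (lall (memL L) [1, 8, 4, 1, 8]) = true := by decide +kernel

theorem rot4_8 : T.rot 4 [3, 2, 4, 3, 2, 4, 3] (sel (ones 275) ip4 8) = true := by decide +kernel

theorem rot4_8r : band (Rule.ok (2 * 6) EX RL ⟨4 :: [3, 2, 4, 3, 2, 4, 3], [6, 2, 4, 6], 3, true⟩) (lall (memL L) [3, 2, 4, 3, 2, 4, 3]) = true := by decide +kernel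

theorem rot4_9 : T.rot 4 [3, 2, 4, 3, 4, 3, 2] (sel (ones 275) ip4 9) = true := by decide +kernel

theorem rot4_9r : band (Rule.ok (2 * 6) EX RL ⟨4 :: [3, 2, 4, 3, 4, 3, 2], [6], 3, true⟩) (lall (memL L) [3, 2, 4, 3, 4, 3, 2]) = true := by decide +kernel

theorem rot4_10 : T.rot 4 [2, 3, 4, 3, 4, 2, 3] (sel (ones 275) ip4 10) = true := by decide +kernel

theorem rot4_10r : band (Rule.ok (2 * 6) EX RL ⟨4 :: [2, 3, 4, 3, 4, 2, 3], [], 3, false⟩) (lall (memL L) [2, 3, 4, 3, 4, 2, 3]) = true := by decide +kernel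

theorem rot4_11 : T.rot 4 [2, 3, 4, 2, 3, 4, 3] (sel (ones 275) ip4 11) = true := by decide +kernel

theorem rot4_11r : band (Rule.ok (2 * 6) EX RL ⟨4 :: [2, 3, 4, 2, 3, 4, 3], [4, 2, 6], 3, false⟩) (lall (memL L) [2, 3, 4, 2, 3, 4, 3]) = true := by decide +kernel

theorem rot4_12 : T.rot 4 [2, 4, 2, 4, 2, 4, 2] (sel (ones 275) ip4 12) = true := by decide +kernel

theorem rot4_12r : band (Rule.ok (2 * 6) EX RL ⟨4 :: [2, 4, 2, 4, 2, 4, 2], [], 16, true⟩) (lall (memL L) [2, 4, 2, 4, 2, 4, 2]) = true := by decide +kernel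

theorem rot4_13 : T.rot 4 [1, 4, 1, 4, 1, 4, 1] (sel (ones 275) ip4 13) = true := by decide +kernel

theorem rot4_13r : band (Rule.ok (2 * 6) EX RL ⟨4 :: [1, 4, 1, 4, 1, 4, 1], [], 20, false⟩) (lall (memL L) [1, 4, 1, 4, 1, 4, 1]) = true := by decide +kernel

theorem rot4_14 : T.rot 4 [7, 4, 2, 7, 4, 2, 7, 2] (sel (ones 275) ip4 14) = true := by decide +kernel

theorem rot4_14r : band (Rule.ok (2 * 6) EX RL ⟨4 :: [7, 4, 2, 7, 4, 2, 7, 2], [2], 4, true⟩) (lall (memL L) [7, 4, 2, 7, 4, 2, 7, 2]) = true := by decide +kernel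

theorem rot4_15 : T.rot 4 [2, 7, 4, 2, 7, 2, 4, 7] (sel (ones 275) ip4 15) = true := by decide +kernel

theorem rot4_15r : band (Rule.ok (2 * 6) EX RL ⟨4 :: [2, 7, 4, 2, 7, 2, 4, 7], [2, 6, 13], 4, true⟩) (lall (memL L) [2, 7, 4, 2, 7, 2, 4, 7]) = true := by decide +kernel

theorem rot4_16 : T.rot 4 [2, 7, 2, 4, 7, 4, 2, 7] (sel (ones 275) ip4 16) = true := by decide +kernel

theorem rot4_16r : band (Rule.ok (2 * 6) EX RL ⟨4 :: [2, 7, 2, 4, 7, 4, 2, 7], [12, 2, 6], 4, true⟩) (lall (memL L) [2, 7, 2, 4, 7, 4, 2, 7]) = true := by decide +kernel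

theorem rot4_17 : T.rot 4 [8, 2, 4, 8, 4, 2, 8, 2] (sel (ones 275) ip4 17) = true := by decide +kernel

theorem rot4_17r : band (Rule.ok (2 * 6) EX RL ⟨4 :: [8, 2, 4, 8, 4, 2, 8, 2], [12, 2], 4, false⟩) (lall (memL L) [8, 2, 4, 8, 4, 2, 8, 2]) = true := by decide +kernel

theorem rot4_18 : T.rot 4 [8, 4, 2, 8, 2, 4, 8, 2] (sel (ones 275) ip4 18) = true := by decide +kernel

theorem rot4_18r : band (Rule.ok (2 * 6) EX RL ⟨4 :: [8, 4, 2, 8, 2, 4, 8, 2], [2, 6, 13, 6], 4, false⟩) (lall (memL L) [8, 4, 2, 8, 2, 4, 8, 2]) = true := by decide +kernel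

theorem rot4_19 : T.rot 4 [2, 8, 2, 4, 8, 2, 4, 8] (sel (ones 275) ip4 19) = true := by decide +kernel

theorem rot4_19r : band (Rule.ok (2 * 6) EX RL ⟨4 :: [2, 8, 2, 4, 8, 2, 4, 8], [2, 6], 4, false⟩) (lall (memL L) [2, 8, 2, 4, 8, 2, 4, 8]) = true := by decide +kernel

theorem rot4_20 : T.rot 4 [1, 7, 4, 5, 8, 4, 7, 5] (sel (ones 275) ip4 20) = true := by decide +kernel

theorem rot4_20r : band (Rule.ok (2 * 6) EX RL ⟨4 :: [1, 7, 4, 5, 8, 4, 7, 5], [8], 8, true⟩) (lall (memL L) [1, 7, 4, 5, 8, 4, 7, 5]) = true := by decide +kernel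

theorem rot4_21 : T.rot 4 [5, 8, 4, 7, 5, 4, 1, 7] (sel (ones 275) ip4 21) = true := by decide +kernel

theorem rot4_21r : band (Rule.ok (2 * 6) EX RL ⟨4 :: [5, 8, 4, 7, 5, 4, 1, 7], [8, 6, 0, 13], 8, true⟩) (lall (memL L) [5, 8, 4, 7, 5, 4, 1, 7]) = true := by decide +kernel

theorem rot4_22 : T.rot 4 [7, 5, 4, 1, 7, 4, 5, 8] (sel (ones 275) ip4 22) = true := by decide +kernel

theorem rot4_22r : band (Rule.ok (2 * 6) EX RL ⟨4 :: [7, 5, 4, 1, 7, 4, 5, 8], [12, 6], 8, true⟩) (lall (memL L) [7, 5, 4, 1, 7, 4, 5, 8]) = true := by decide +kernel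

theorem rot4_23 : T.rot 4 [7, 5, 4, 8, 1, 4, 5, 8] (sel (ones 275) ip4 23) = true := by decide +kernel

theorem rot4_23r : band (Rule.ok (2 * 6) EX RL ⟨4 :: [7, 5, 4, 8, 1, 4, 5, 8], [12], 8, false⟩) (lall (memL L) [7, 5, 4, 8, 1, 4, 5, 8]) = true := by decide +kernel

theorem rot4_24 : T.rot 4 [5, 8, 4, 7, 5, 4, 8, 1] (sel (ones 275) ip4 24) = true := by decide +kernel

theorem rot4_24r : band (Rule.ok (2 * 6) EX RL ⟨4 :: [5, 8, 4, 7, 5, 4, 8, 1], [8, 6], 8, false⟩) (lall (memL L) [5, 8, 4, 7, 5, 4, 8, 1]) = true := by decide +kernel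

theorem rot4_25 : T.rot 4 [7, 4, 3, 8, 4, 3, 7, 4, 3] (sel (ones 275) ip4 25) = true := by decide +kernel

theorem rot4_25r : band (Rule.ok (2 * 6) EX RL ⟨4 :: [7, 4, 3, 8, 4, 3, 7, 4, 3], [4], 5, true⟩) (lall (memL L) [7, 4, 3, 8, 4, 3, 7, 4, 3]) = true := by decide +kernel

theorem rot4_26 : T.rot 4 [3, 8, 4, 3, 7, 4, 3, 4, 7] (sel (ones 275) ip4 26) = true := by decide +kernel

theorem rot4_26r : band (Rule.ok (2 * 6) EX RL ⟨4 :: [3, 8, 4, 3, 7, 4, 3, 4, 7], [4, 6, 13], 5, true⟩) (lall (memL L) [3, 8, 4, 3, 7, 4, 3, 4, 7]) = true := by decide +kernel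

theorem rot4_27 : T.rot 4 [3, 7, 4, 3, 4, 7, 4, 3, 8] (sel (ones 275) ip4 27) = true := by decide +kernel

theorem rot4_27r : band (Rule.ok (2 * 6) EX RL ⟨4 :: [3, 7, 4, 3, 4, 7, 4, 3, 8], [6, 12, 4, 6], 5, true⟩) (lall (memL L) [3, 7, 4, 3, 4, 7, 4, 3, 8]) = true := by decide +kernel

theorem rot4_28 : T.rot 4 [3, 4, 7, 4, 3, 8, 4, 3, 7] (sel (ones 275) ip4 28) = true := by decide +kernel

theorem rot4_28r : band (Rule.ok (2 * 6) EX RL ⟨4 :: [3, 4, 7, 4, 3, 8, 4, 3, 7], [6], 5, true⟩) (lall (memL L) [3, 4, 7, 4, 3, 8, 4, 3, 7]) = true := by decide +kernel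

theorem rot4_29 : T.rot 4 [8, 3, 4, 7, 3, 4, 8, 4, 3] (sel (ones 275) ip4 29) = true := by decide +kernel

theorem rot4_29r : band (Rule.ok (2 * 6) EX RL ⟨4 :: [8, 3, 4, 7, 3, 4, 8, 4, 3], [], 5, false⟩) (lall (memL L) [8, 3, 4, 7, 3, 4, 8, 4, 3]) = true := by decide +kernel

theorem rot4_30 : T.rot 4 [7, 3, 4, 8, 4, 3, 4, 8, 3] (sel (ones 275) ip4 30) = true := by decide +kernel

theorem rot4_30r : band (Rule.ok (2 * 6) EX RL ⟨4 :: [7, 3, 4, 8, 4, 3, 4, 8, 3], [6, 12, 4], 5, false⟩) (lall (memL L) [7, 3, 4, 8, 4, 3, 4, 8, 3]) = true := by decide +kernel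

theorem rot4_31 : T.rot 4 [8, 4, 3, 4, 8, 3, 4, 7, 3] (sel (ones 275) ip4 31) = true := by decide +kernel

theorem rot4_31r : band (Rule.ok (2 * 6) EX RL ⟨4 :: [8, 4, 3, 4, 8, 3, 4, 7, 3], [4, 6, 13, 6], 5, false⟩) (lall (memL L) [8, 4, 3, 4, 8, 3, 4, 7, 3]) = true := by decide +kernel

theorem rot4_32 : T.rot 4 [3, 4, 8, 3, 4, 7, 3, 4, 8] (sel (ones 275) ip4 32) = true := by decide +kernel

theorem rot4_32r : band (Rule.ok (2 * 6) EX RL ⟨4 :: [3, 4, 8, 3, 4, 7, 3, 4, 8], [4, 6], 5, false⟩) (lall (memL L) [3, 4, 8, 3, 4, 7, 3, 4, 8]) = true := by decide +kernel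

theorem rot4_33 : T.rot 4 [2, 4, 5, 3, 2, 3, 2, 5, 2] (sel (ones 275) ip4 33) = true := by decide +kernel

theorem rot4_33r : band (Rule.ok (2 * 6) EX RL ⟨4 :: [2, 4, 5, 3, 2, 3, 2, 5, 2], [8, 2], 9, true⟩) (lall (memL L) [2, 4, 5, 3, 2, 3, 2, 5, 2]) = true := by decide +kernel

theorem rot4_34 : T.rot 4 [5, 3, 2, 3, 2, 5, 2, 4, 2] (sel (ones 275) ip4 34) = true := by decide +kernel

theorem rot4_34r : band (Rule.ok (2 * 6) EX RL ⟨4 :: [5, 3, 2, 3, 2, 5, 2, 4, 2], [8, 2, 6, 2], 9, true⟩) (lall (memL L) [5, 3, 2, 3, 2, 5, 2, 4, 2]) = true := by decide +kernel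

theorem rot4_35 : T.rot 4 [2, 4, 2, 5, 2, 3, 2, 3, 5] (sel (ones 275) ip4 35) = true := by decide +kernel

theorem rot4_35r : band (Rule.ok (2 * 6) EX RL ⟨4 :: [2, 4, 2, 5, 2, 3, 2, 3, 5], [8, 2, 6, 2, 6], 9, false⟩) (lall (memL L) [2, 4, 2, 5, 2, 3, 2, 3, 5]) = true := by decide +kernel

theorem rot4_36 : T.rot 4 [2, 5, 2, 3, 2, 3, 5, 4, 2] (sel (ones 275) ip4 36) = true := by decide +kernel

theorem rot4_36r : band (Rule.ok (2 * 6) EX RL ⟨4 :: [2, 5, 2, 3, 2, 3, 5, 4, 2], [8, 2, 6], 9, false⟩) (lall (memL L) [2, 5, 2, 3, 2, 3, 5, 4, 2]) = true := by decide +kernel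

theorem rot4_37 : T.rot 4 [8, 3, 2, 4, 2, 1, 4, 3, 7] (sel (ones 275) ip4 37) = true := by decide +kernel

theorem rot4_37r : band (Rule.ok (2 * 6) EX RL ⟨4 :: [8, 3, 2, 4, 2, 1, 4, 3, 7], [0, 6, 4, 13], 11, true⟩) (lall (memL L) [8, 3, 2, 4, 2, 1, 4, 3, 7]) = true := by decide +kernel

theorem rot4_38 : T.rot 4 [2, 1, 4, 3, 7, 4, 8, 3, 2] (sel (ones 275) ip4 38) = true := by decide +kernel

theorem rot4_38r : band (Rule.ok (2 * 6) EX RL ⟨4 :: [2, 1, 4, 3, 7, 4, 8, 3, 2], [2, 6], 11, true⟩) (lall (memL L) [2, 1, 4, 3, 7, 4, 8, 3, 2]) = true := by decide +kernel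

theorem rot4_39 : T.rot 4 [2, 3, 7, 4, 8, 3, 4, 1, 2] (sel (ones 275) ip4 39) = true := by decide +kernel

theorem rot4_39r : band (Rule.ok (2 * 6) EX RL ⟨4 :: [2, 3, 7, 4, 8, 3, 4, 1, 2], [2], 11, false⟩) (lall (memL L) [2, 3, 7, 4, 8, 3, 4, 1, 2]) = true := by decide +kernel

theorem rot4_40 : T.rot 4 [8, 3, 4, 1, 2, 4, 2, 3, 7] (sel (ones 275) ip4 40) = true := by decide +kernel

theorem rot4_40r : band (Rule.ok (2 * 6) EX RL ⟨4 :: [8, 3, 4, 1, 2, 4, 2, 3, 7], [0, 6, 4, 13, 6], 11, false⟩) (lall (memL L) [8, 3, 4, 1, 2, 4, 2, 3, 7]) = true := by decide +kernel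

theorem rot4_41 : T.rot 4 [6, 4, 6, 4, 6, 4, 6, 4, 6] (sel (ones 275) ip4 41) = true := by decide +kernel

theorem rot4_41r : band (Rule.ok (2 * 6) EX RL ⟨4 :: [6, 4, 6, 4, 6, 4, 6, 4, 6], [], 30, false⟩) (lall (memL L) [6, 4, 6, 4, 6, 4, 6, 4, 6]) = true := by decide +kernel

theorem rot4_42 : T.rot 4 [5, 1, 2, 7, 2, 5, 4, 7, 2, 8] (sel (ones 275) ip4 42) = true := by decide +kernel

theorem rot4_42r : band (Rule.ok (2 * 6) EX RL ⟨4 :: [5, 1, 2, 7, 2, 5, 4, 7, 2, 8], [6], 10, true⟩) (lall (memL L) [5, 1, 2, 7, 2, 5, 4, 7, 2, 8]) = true := by decide +kernel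

theorem rot4_43 : T.rot 4 [7, 2, 8, 4, 5, 2, 8, 2, 1, 5] (sel (ones 275) ip4 43) = true := by decide +kernel

theorem rot4_43r : band (Rule.ok (2 * 6) EX RL ⟨4 :: [7, 2, 8, 4, 5, 2, 8, 2, 1, 5], [], 10, false⟩) (lall (memL L) [7, 2, 8, 4, 5, 2, 8, 2, 1, 5]) = true := by decide +kernel

theorem rot4_44 : T.rot 4 [5, 2, 8, 2, 1, 5, 4, 7, 2, 8] (sel (ones 275) ip4 44) = true := by decide +kernel

theorem rot4_44r : band (Rule.ok (2 * 6) EX RL ⟨4 :: [5, 2, 8, 2, 1, 5, 4, 7, 2, 8], [6, 13, 2, 12], 10, false⟩) (lall (memL L) [5, 2, 8, 2, 1, 5, 4, 7, 2, 8]) = true := by decide +kernel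

theorem rot4_45 : T.rot 4 [5, 3, 8, 4, 2, 5, 3, 4, 2, 7, 3, 5, 2] (sel (ones 275) ip4 45) = true := by decide +kernel

theorem rot4_45r : band (Rule.ok (2 * 6) EX RL ⟨4 :: [5, 3, 8, 4, 2, 5, 3, 4, 2, 7, 3, 5, 2], [8, 2], 13, true⟩) (lall (memL L) [5, 3, 8, 4, 2, 5, 3, 4, 2, 7, 3, 5, 2]) = true := by decide +kernel

theorem rot4_46 : T.rot 4 [2, 7, 3, 5, 2, 4, 5, 3, 8, 4, 2, 5, 3] (sel (ones 275) ip4 46) = true := by decide +kernel

theorem rot4_46r : band (Rule.ok (2 * 6) EX RL ⟨4 :: [2, 7, 3, 5, 2, 4, 5, 3, 8, 4, 2, 5, 3], [4, 12, 2, 6], 13, true⟩) (lall (memL L) [2, 7, 3, 5, 2, 4, 5, 3, 8, 4, 2, 5, 3]) = true := by decide +kernel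

theorem rot4_47 : T.rot 4 [3, 5, 2, 4, 7, 3, 5, 4, 2, 5, 3, 8, 2] (sel (ones 275) ip4 47) = true := by decide +kernel

theorem rot4_47r : band (Rule.ok (2 * 6) EX RL ⟨4 :: [3, 5, 2, 4, 7, 3, 5, 4, 2, 5, 3, 8, 2], [4, 12, 2], 13, false⟩) (lall (memL L) [3, 5, 2, 4, 7, 3, 5, 4, 2, 5, 3, 8, 2]) = true := by decide +kernel

theorem rot4_48 : T.rot 4 [2, 5, 3, 8, 2, 4, 3, 5, 2, 4, 7, 3, 5] (sel (ones 275) ip4 48) = true := by decide +kernel

theorem rot4_48r : band (Rule.ok (2 * 6) EX RL ⟨4 :: [2, 5, 3, 8, 2, 4, 3, 5, 2, 4, 7, 3, 5], [8, 2, 6], 13, false⟩) (lall (memL L) [2, 5, 3, 8, 2, 4, 3, 5, 2, 4, 7, 3, 5]) = true := by decide +kernel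

theorem rot4_49 : T.rot 4 [2, 6, 4, 2, 6, 4, 2, 6, 4, 2, 6, 4, 2, 6] (sel (ones 275) ip4 49) = true := by decide +kernel

theorem rot4_49r : band (Rule.ok (2 * 6) EX RL ⟨4 :: [2, 6, 4, 2, 6, 4, 2, 6, 4, 2, 6, 4, 2, 6], [10], 34, true⟩) (lall (memL L) [2, 6, 4, 2, 6, 4, 2, 6, 4, 2, 6, 4, 2, 6]) = true := by decide +kernel

theorem rot4_50 : T.rot 4 [6, 2, 4, 6, 2, 4, 6, 2, 4, 6, 2, 4, 6, 2] (sel (ones 275) ip4 50) = true := by decide +kernel

theorem rot4_50r : band (Rule.ok (2 * 6) EX RL ⟨4 :: [6, 2, 4, 6, 2, 4, 6, 2, 4, 6, 2, 4, 6, 2], [2], 34, false⟩) (lall (memL L) [6, 2, 4, 6, 2, 4, 6, 2, 4, 6, 2, 4, 6, 2]) = true := by decide +kernel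

theorem rot4_51 : T.rot 4 [6, 7, 4, 6, 7, 4, 6, 7, 4, 6, 7, 4, 6, 7] (sel (ones 275) ip4 51) = true := by decide +kernel

theorem rot4_51r : band (Rule.ok (2 * 6) EX RL ⟨4 :: [6, 7, 4, 6, 7, 4, 6, 7, 4, 6, 7, 4, 6, 7], [6], 35, true⟩) (lall (memL L) [6, 7, 4, 6, 7, 4, 6, 7, 4, 6, 7, 4, 6, 7]) = true := by decide +kernel

theorem rot4_52 : T.rot 4 [8, 6, 4, 8, 6, 4, 8, 6, 4, 8, 6, 4, 8, 6] (sel (ones 275) ip4 52) = true := by decide +kernel

theorem rot4_52r : band (Rule.ok (2 * 6) EX RL ⟨4 :: [8, 6, 4, 8, 6, 4, 8, 6, 4, 8, 6, 4, 8, 6], [], 35, false⟩) (lall (memL L) [8, 6, 4, 8, 6, 4, 8, 6, 4, 8, 6, 4, 8, 6]) = true := by decide +kernel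

theorem rot4_53 : T.rot 4 [1, 6, 1, 4, 1, 6, 1, 4, 1, 6, 1, 4, 1, 6, 1, 4, 1, 6, 1] (sel (ones 275) ip4 53) = true := by decide +kernel

theorem rot4_53r : band (Rule.ok (2 * 6) EX RL ⟨4 :: [1, 6, 1, 4, 1, 6, 1, 4, 1, 6, 1, 4, 1, 6, 1, 4, 1, 6, 1], [0], 31, false⟩) (lall (memL L) [1, 6, 1, 4, 1, 6, 1, 4, 1, 6, 1, 4, 1, 6, 1, 4, 1, 6, 1]) = true := by decide +kernel

theorem cov4 : T.cover 4 [(sel (ones 275) ip4 1), (sel (ones 275) ip4 2), (sel (ones 275) ip4 3), (sel (ones 275) ip4 4), (sel (ones 275) ip4 5), (sel (ones 275) ip4 6), (sel (ones 275) ip4 7), (sel (ones 275) ip4 8), (sel (ones 275) ip4 9), (sel (ones 275) ip4 10), (sel (ones 275) ip4 11), (sel (ones 275) ip4 12), (sel (ones 275) ip4 13), (sel (ones 275) ip4 14), (sel (ones 275) ip4 15), (sel (ones 275) ip4 16), (sel (ones 275) ip4 17), (sel (ones 275) ip4 18), (sel (ones 275) ip4 19), (sel (ones 275) ip4 20), (sel (ones 275) ip4 21), (sel (ones 275) ip4 22), (sel (ones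 275) ip4 23), (sel (ones 275) ip4 24), (sel (ones 275) ip4 25), (sel (ones 275) ip4 26), (sel (ones 275) ip4 27), (sel (ones 275) ip4 28), (sel (ones 275) ip4 29), (sel (ones 275) ip4 30), (sel (ones 275) ip4 31), (sel (ones 275) ip4 32), (sel (ones 275) ip4 33), (sel (ones 275) ip4 34), (sel (ones 275) ip4 35), (sel (ones 275) ip4 36), (sel (ones 275) ip4 37), (sel (ones 275) ip4 38), (sel (ones 275) ip4 39), (sel (ones 275) ip4 40), (sel (ones 275) ip4 41), (sel (ones 275) ip4 42), (sel (ones 275) ip4 43), (sel (ones 275) ip4 44), (sel (ones 275) ip4 45), (sel (ones 275) ip4 46), (sel (ones 275) ip4 47), (sel (ones 275) ip4 48), (sel (ones 275) ip4 49), (sel (ones 275) ip4 50), (sel (ones 275) ip4 51), (sel (ones 275) ip4 52), (sel (ones 275) ip4 53), 1] = true := by decide +kernel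

theorem tl4 : T.treeLt 9 4 = true := by decide +kernel

theorem rot5_1 : T.rot 5 [5] (sel (ones 275) ip5 1) = true := by decide +kernel

theorem rot5_1r : band (Rule.ok (2 * 6) EX RL ⟨5 :: [5], [], 42, false⟩) (lall (memL L) [5]) = true := by decide +kernel

theorem rot5_2 : T.rot 5 [2, 5, 2, 5, 2] (sel (ones 275) ip5 2) = true := by decide +kernel

theorem rot5_2r : band (Rule.ok (2 * 6) EX RL ⟨5 :: [2, 5, 2, 5, 2], [], 12, true⟩) (lall (memL L) [2, 5, 2, 5, 2]) = true := by decide +kernel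

theorem rot5_3 : T.rot 5 [4, 5, 4, 5, 4] (sel (ones 275) ip5 3) = true := by decide +kernel

theorem rot5_3r : band (Rule.ok (2 * 6) EX RL ⟨5 :: [4, 5, 4, 5, 4], [], 21, true⟩) (lall (memL L) [4, 5, 4, 5, 4]) = true := by decide +kernel

theorem rot5_4 : T.rot 5 [7, 5, 7, 5, 7] (sel (ones 275) ip5 4) = true := by decide +kernel

theorem rot5_4r : band (Rule.ok (2 * 6) EX RL ⟨5 :: [7, 5, 7, 5, 7], [8], 23, true⟩) (lall (memL L) [7, 5, 7, 5, 7]) = true := by decide +kernel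

theorem rot5_5 : T.rot 5 [8, 5, 8, 5, 8] (sel (ones 275) ip5 5) = true := by decide +kernel

theorem rot5_5r : band (Rule.ok (2 * 6) EX RL ⟨5 :: [8, 5, 8, 5, 8], [], 23, false⟩) (lall (memL L) [8, 5, 8, 5, 8]) = true := by decide +kernel

theorem rot5_6 : T.rot 5 [1, 7, 5, 1, 7] (sel (ones 275) ip5 6) = true := by decide +kernel

theorem rot5_6r : band (Rule.ok (2 * 6) EX RL ⟨5 :: [1, 7, 5, 1, 7], [8], 25, true⟩) (lall (memL L) [1, 7, 5, 1, 7]) = true := by decide +kernel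

theorem rot5_7 : T.rot 5 [8, 1, 5, 8, 1] (sel (ones 275) ip5 7) = true := by decide +kernel

theorem rot5_7r : band (Rule.ok (2 * 6) EX RL ⟨5 :: [8, 1, 5, 8, 1], [], 25, false⟩) (lall (memL L) [8, 1, 5, 8, 1]) = true := by decide +kernel

theorem rot5_8 : T.rot 5 [1, 5, 1, 5, 1, 5, 1] (sel (ones 275) ip5 8) = true := by decide +kernel

theorem rot5_8r : band (Rule.ok (2 * 6) EX RL ⟨5 :: [1, 5, 1, 5, 1, 5, 1], [], 22, false⟩) (lall (memL L) [1, 5, 1, 5, 1, 5, 1]) = true := by decide +kernel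

theorem rot5_9 : T.rot 5 [4, 1, 7, 4, 5, 8, 4, 7] (sel (ones 275) ip5 9) = true := by decide +kernel

theorem rot5_9r : band (Rule.ok (2 * 6) EX RL ⟨5 :: [4, 1, 7, 4, 5, 8, 4, 7], [], 8, true⟩) (lall (memL L) [4, 1, 7, 4, 5, 8, 4, 7]) = true := by decide +kernel

theorem rot5_10 : T.rot 5 [8, 4, 7, 5, 4, 1, 7, 4] (sel (ones 275) ip5 10) = true := by decide +kernel

theorem rot5_10r : band (Rule.ok (2 * 6) EX RL ⟨5 :: [8, 4, 7, 5, 4, 1, 7, 4], [12, 6, 13, 8], 8, true⟩) (lall (memL L) [8, 4, 7, 5, 4, 1, 7, 4]) = true := by decide +kernel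

theorem rot5_11 : T.rot 5 [8, 4, 7, 5, 4, 8, 1, 4] (sel (ones 275) ip5 11) = true := by decide +kernel

theorem rot5_11r : band (Rule.ok (2 * 6) EX RL ⟨5 :: [8, 4, 7, 5, 4, 8, 1, 4], [8], 8, false⟩) (lall (memL L) [8, 4, 7, 5, 4, 8, 1, 4]) = true := by decide +kernel

theorem rot5_12 : T.rot 5 [2, 4, 2, 4, 5, 3, 2, 3, 2] (sel (ones 275) ip5 12) = true := by decide +kernel

theorem rot5_12r : band (Rule.ok (2 * 6) EX RL ⟨5 :: [2, 4, 2, 4, 5, 3, 2, 3, 2], [], 9, true⟩) (lall (memL L) [2, 4, 2, 4, 5, 3, 2, 3, 2]) = true := by decide +kernel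

theorem rot5_13 : T.rot 5 [3, 2, 3, 2, 5, 2, 4, 2, 4] (sel (ones 275) ip5 13) = true := by decide +kernel

theorem rot5_13r : band (Rule.ok (2 * 6) EX RL ⟨5 :: [3, 2, 3, 2, 5, 2, 4, 2, 4], [2, 4, 2, 4, 8], 9, true⟩) (lall (memL L) [3, 2, 3, 2, 5, 2, 4, 2, 4]) = true := by decide +kernel

theorem rot5_14 : T.rot 5 [2, 3, 2, 3, 5, 4, 2, 4, 2] (sel (ones 275) ip5 14) = true := by decide +kernel

theorem rot5_14r : band (Rule.ok (2 * 6) EX RL ⟨5 :: [2, 3, 2, 3, 5, 4, 2, 4, 2], [8], 9, false⟩) (lall (memL L) [2, 3, 2, 3, 5, 4, 2, 4, 2]) = true := by decide +kernel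

theorem rot5_15 : T.rot 5 [6, 5, 6, 5, 6, 5, 6, 5, 6] (sel (ones 275) ip5 15) = true := by decide +kernel

theorem rot5_15r : band (Rule.ok (2 * 6) EX RL ⟨5 :: [6, 5, 6, 5, 6, 5, 6, 5, 6], [], 32, false⟩) (lall (memL L) [6, 5, 6, 5, 6, 5, 6, 5, 6]) = true := by decide +kernel

theorem rot5_16 : T.rot 5 [1, 2, 7, 2, 5, 4, 7, 2, 8, 4] (sel (ones 275) ip5 16) = true := by decide +kernel

theorem rot5_16r : band (Rule.ok (2 * 6) EX RL ⟨5 :: [1, 2, 7, 2, 5, 4, 7, 2, 8, 4], [], 10, true⟩) (lall (memL L) [1, 2, 7, 2, 5, 4, 7, 2, 8, 4]) = true := by decide +kernel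

theorem rot5_17 : T.rot 5 [4, 7, 2, 8, 4, 5, 1, 2, 7, 2] (sel (ones 275) ip5 17) = true := by decide +kernel

theorem rot5_17r : band (Rule.ok (2 * 6) EX RL ⟨5 :: [4, 7, 2, 8, 4, 5, 1, 2, 7, 2], [8, 0, 2, 13, 2], 10, true⟩) (lall (memL L) [4, 7, 2, 8, 4, 5, 1, 2, 7, 2]) = true := by decide +kernel

theorem rot5_18 : T.rot 5 [2, 8, 2, 1, 5, 4, 7, 2, 8, 4] (sel (ones 275) ip5 18) = true := by decide +kernel

theorem rot5_18r : band (Rule.ok (2 * 6) EX RL ⟨5 :: [2, 8, 2, 1, 5, 4, 7, 2, 8, 4], [6, 13, 2, 12, 6], 10, false⟩) (lall (memL L) [2, 8, 2, 1, 5, 4, 7, 2, 8, 4]) = true := by decide +kernel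

theorem rot5_19 : T.rot 5 [4, 7, 2, 8, 4, 5, 2, 8, 2, 1] (sel (ones 275) ip5 19) = true := by decide +kernel

theorem rot5_19r : band (Rule.ok (2 * 6) EX RL ⟨5 :: [4, 7, 2, 8, 4, 5, 2, 8, 2, 1], [8], 10, false⟩) (lall (memL L) [4, 7, 2, 8, 4, 5, 2, 8, 2, 1]) = true := by decide +kernel

theorem rot5_20 : T.rot 5 [2, 4, 5, 3, 8, 4, 2, 5, 3, 4, 2, 7, 3] (sel (ones 275) ip5 20) = true := by decide +kernel

theorem rot5_20r : band (Rule.ok (2 * 6) EX RL ⟨5 :: [2, 4, 5, 3, 8, 4, 2, 5, 3, 4, 2, 7, 3], [], 13, true⟩) (lall (memL L) [2, 4, 5, 3, 8, 4, 2, 5, 3, 4, 2, 7, 3]) = true := by decide +kernel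

theorem rot5_21 : T.rot 5 [3, 8, 4, 2, 5, 3, 4, 2, 7, 3, 5, 2, 4] (sel (ones 275) ip5 21) = true := by decide +kernel

theorem rot5_21r : band (Rule.ok (2 * 6) EX RL ⟨5 :: [3, 8, 4, 2, 5, 3, 4, 2, 7, 3, 5, 2, 4], [8, 2, 6], 13, true⟩) (lall (memL L) [3, 8, 4, 2, 5, 3, 4, 2, 7, 3, 5, 2, 4]) = true := by decide +kernel

theorem rot5_22 : T.rot 5 [3, 4, 2, 7, 3, 5, 2, 4, 5, 3, 8, 4, 2] (sel (ones 275) ip5 22) = true := by decide +kernel

theorem rot5_22r : band (Rule.ok (2 * 6) EX RL ⟨5 :: [3, 4, 2, 7, 3, 5, 2, 4, 5, 3, 8, 4, 2], [4, 12, 2, 6, 4, 8], 13, true⟩) (lall (memL L) [3, 4, 2, 7, 3, 5, 2, 4, 5, 3, 8, 4, 2]) = true := by decide +kernel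

theorem rot5_23 : T.rot 5 [2, 4, 7, 3, 5, 4, 2, 5, 3, 8, 2, 4, 3] (sel (ones 275) ip5 23) = true := by decide +kernel

theorem rot5_23r : band (Rule.ok (2 * 6) EX RL ⟨5 :: [2, 4, 7, 3, 5, 4, 2, 5, 3, 8, 2, 4, 3], [4, 12, 2, 6, 4], 13, false⟩) (lall (memL L) [2, 4, 7, 3, 5, 4, 2, 5, 3, 8, 2, 4, 3]) = true := by decide +kernel

theorem rot5_24 : T.rot 5 [4, 2, 5, 3, 8, 2, 4, 3, 5, 2, 4, 7, 3] (sel (ones 275) ip5 24) = true := by decide +kernel

theorem rot5_24r : band (Rule.ok (2 * 6) EX RL ⟨5 :: [4, 2, 5, 3, 8, 2, 4, 3, 5, 2, 4, 7, 3], [8, 2, 6, 8], 13, false⟩) (lall (memL L) [4, 2, 5, 3, 8, 2, 4, 3, 5, 2, 4, 7, 3]) = true := by decide +kernel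

theorem rot5_25 : T.rot 5 [3, 8, 2, 4, 3, 5, 2, 4, 7, 3, 5, 4, 2] (sel (ones 275) ip5 25) = true := by decide +kernel

theorem rot5_25r : band (Rule.ok (2 * 6) EX RL ⟨5 :: [3, 8, 2, 4, 3, 5, 2, 4, 7, 3, 5, 4, 2], [8], 13, false⟩) (lall (memL L) [3, 8, 2, 4, 3, 5, 2, 4, 7, 3, 5, 4, 2]) = true := by decide +kernel

theorem rot5_26 : T.rot 5 [1, 6, 5, 1, 6, 5, 1, 6, 5, 1, 6, 5, 1, 6] (sel (ones 275) ip5 26) = true := by decide +kernel

theorem rot5_26r : band (Rule.ok (2 * 6) EX RL ⟨5 :: [1, 6, 5, 1, 6, 5, 1, 6, 5, 1, 6, 5, 1, 6], [], 36, false⟩) (lall (memL L) [1, 6, 5, 1, 6, 5, 1, 6, 5, 1, 6, 5, 1, 6]) = true := by decide +kernel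

theorem rot5_27 : T.rot 5 [6, 1, 5, 6, 1, 5, 6, 1, 5, 6, 1, 5, 6, 1] (sel (ones 275) ip5 27) = true := by decide +kernel

theorem rot5_27r : band (Rule.ok (2 * 6) EX RL ⟨5 :: [6, 1, 5, 6, 1, 5, 6, 1, 5, 6, 1, 5, 6, 1], [0], 33, false⟩) (lall (memL L) [6, 1, 5, 6, 1, 5, 6, 1, 5, 6, 1, 5, 6, 1]) = true := by decide +kernel

theorem rot5_28 : T.rot 5 [2, 6, 5, 2, 6, 5, 2, 6, 5, 2, 6, 5, 2, 6] (sel (ones 275) ip5 28) = true := by decide +kernel

theorem rot5_28r : band (Rule.ok (2 * 6) EX RL ⟨5 :: [2, 6, 5, 2, 6, 5, 2, 6, 5, 2, 6, 5, 2, 6], [10], 37, true⟩) (lall (memL L) [2, 6, 5, 2, 6, 5, 2, 6, 5, 2, 6, 5, 2, 6]) = true := by decide +kernel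

theorem rot5_29 : T.rot 5 [6, 2, 5, 6, 2, 5, 6, 2, 5, 6, 2, 5, 6, 2] (sel (ones 275) ip5 29) = true := by decide +kernel

theorem rot5_29r : band (Rule.ok (2 * 6) EX RL ⟨5 :: [6, 2, 5, 6, 2, 5, 6, 2, 5, 6, 2, 5, 6, 2], [2], 37, false⟩) (lall (memL L) [6, 2, 5, 6, 2, 5, 6, 2, 5, 6, 2, 5, 6, 2]) = true := by decide +kernel

theorem rot5_30 : T.rot 5 [3, 6, 5, 3, 6, 5, 3, 6, 5, 3, 6, 5, 3, 6] (sel (ones 275) ip5 30) = true := by decide +kernel

theorem rot5_30r : band (Rule.ok (2 * 6) EX RL ⟨5 :: [3, 6, 5, 3, 6, 5, 3, 6, 5, 3, 6, 5, 3, 6], [10], 38, true⟩) (lall (memL L) [3, 6, 5, 3, 6, 5, 3, 6, 5, 3, 6, 5, 3, 6]) = true := by decide +kernel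

theorem rot5_31 : T.rot 5 [6, 3, 5, 6, 3, 5, 6, 3, 5, 6, 3, 5, 6, 3] (sel (ones 275) ip5 31) = true := by decide +kernel

theorem rot5_31r : band (Rule.ok (2 * 6) EX RL ⟨5 :: [6, 3, 5, 6, 3, 5, 6, 3, 5, 6, 3, 5, 6, 3], [4], 38, false⟩) (lall (memL L) [6, 3, 5, 6, 3, 5, 6, 3, 5, 6, 3, 5, 6, 3]) = true := by decide +kernel

theorem rot5_32 : T.rot 5 [6, 7, 5, 6, 7, 5, 6, 7, 5, 6, 7, 5, 6, 7] (sel (ones 275) ip5 32) = true := by decide +kernel

theorem rot5_32r : band (Rule.ok (2 * 6) EX RL ⟨5 :: [6, 7, 5, 6, 7, 5, 6, 7, 5, 6, 7, 5, 6, 7], [8], 39, true⟩) (lall (memL L) [6, 7, 5, 6, 7, 5, 6, 7, 5, 6, 7, 5, 6, 7]) = true := by decide +kernel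

theorem cov5 : T.cover 5 [(sel (ones 275) ip5 1), (sel (ones 275) ip5 2), (sel (ones 275) ip5 3), (sel (ones 275) ip5 4), (sel (ones 275) ip5 5), (sel (ones 275) ip5 6), (sel (ones 275) ip5 7), (sel (ones 275) ip5 8), (sel (ones 275) ip5 9), (sel (ones 275) ip5 10), (sel (ones 275) ip5 11), (sel (ones 275) ip5 12), (sel (ones 275) ip5 13), (sel (ones 275) ip5 14), (sel (ones 275) ip5 15), (sel (ones 275) ip5 16), (sel (ones 275) ip5 17), (sel (ones 275) ip5 18), (sel (ones 275) ip5 19), (sel (ones 275) ip5 20), (sel (ones 275) ip5 21), (sel (ones 275) ip5 22), (sel (ones 275) ip5 23), (sel (ones 275) ip5 24), (sel (ones 275) ip5 25), (sel (ones 275) ip5 26), (sel (ones 275) ip5 27), (sel (ones 275) ip5 28), (sel (ones 275) ip5 29), (sel (ones 275) ip5 30), (sel (ones 275) ip5 31), (sel (ones 275) ip5 32), 1] = true := by decide +kernel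

theorem tl5 : T.treeLt 9 5 = true := by decide +kernel

theorem rot6_1 : T.rot 6 [6] (sel (ones 275) ip6 1) = true := by decide +kernel

theorem rot6_1r : band (Rule.ok (2 * 6) EX RL ⟨6 :: [6], [], 42, false⟩) (lall (memL L) [6]) = true := by decide +kernel

theorem rot6_2 : T.rot 6 [2, 6, 2] (sel (ones 275) ip6 2) = true := by decide +kernel

theorem rot6_2r : band (Rule.ok (2 * 6) EX RL ⟨6 :: [2, 6, 2], [], 26, false⟩) (lall (memL L) [2, 6, 2]) = true := by decide +kernel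

theorem rot6_3 : T.rot 6 [7, 6, 7] (sel (ones 275) ip6 3) = true := by decide +kernel

theorem rot6_3r : band (Rule.ok (2 * 6) EX RL ⟨6 :: [7, 6, 7], [10], 27, true⟩) (lall (memL L) [7, 6, 7]) = true := by decide +kernel

theorem rot6_4 : T.rot 6 [8, 6, 8] (sel (ones 275) ip6 4) = true := by decide +kernel

theorem rot6_4r : band (Rule.ok (2 * 6) EX RL ⟨6 :: [8, 6, 8], [], 27, false⟩) (lall (memL L) [8, 6, 8]) = true := by decide +kernel

theorem rot6_5 : T.rot 6 [3, 6, 7, 3, 8] (sel (ones 275) ip6 5) = true := by decide +kernel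

theorem rot6_5r : band (Rule.ok (2 * 6) EX RL ⟨6 :: [3, 6, 7, 3, 8], [], 28, false⟩) (lall (memL L) [3, 6, 7, 3, 8]) = true := by decide +kernel

theorem rot6_6 : T.rot 6 [7, 3, 8, 6, 3] (sel (ones 275) ip6 6) = true := by decide +kernel

theorem rot6_6r : band (Rule.ok (2 * 6) EX RL ⟨6 :: [7, 3, 8, 6, 3], [10], 28, true⟩) (lall (memL L) [7, 3, 8, 6, 3]) = true := by decide +kernel

theorem rot6_7 : T.rot 6 [1, 6, 1, 6, 1] (sel (ones 275) ip6 7) = true := by decide +kernel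

theorem rot6_7r : band (Rule.ok (2 * 6) EX RL ⟨6 :: [1, 6, 1, 6, 1], [], 29, true⟩) (lall (memL L) [1, 6, 1, 6, 1]) = true := by decide +kernel

theorem rot6_8 : T.rot 6 [4, 6, 4, 6, 4, 6, 4, 6, 4] (sel (ones 275) ip6 8) = true := by decide +kernel

theorem rot6_8r : band (Rule.ok (2 * 6) EX RL ⟨6 :: [4, 6, 4, 6, 4, 6, 4, 6, 4], [], 30, true⟩) (lall (memL L) [4, 6, 4, 6, 4, 6, 4, 6, 4]) = true := by decide +kernel

theorem rot6_9 : T.rot 6 [5, 6, 5, 6, 5, 6, 5, 6, 5] (sel (ones 275) ip6 9) = true := by decide +kernel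

theorem rot6_9r : band (Rule.ok (2 * 6) EX RL ⟨6 :: [5, 6, 5, 6, 5, 6, 5, 6, 5], [], 32, true⟩) (lall (memL L) [5, 6, 5, 6, 5, 6, 5, 6, 5]) = true := by decide +kernel

theorem rot6_10 : T.rot 6 [5, 1, 6, 5, 1, 6, 5, 1, 6, 5, 1, 6, 5, 1] (sel (ones 275) ip6 10) = true := by decide +kernel

theorem rot6_10r : band (Rule.ok (2 * 6) EX RL ⟨6 :: [5, 1, 6, 5, 1, 6, 5, 1, 6, 5, 1, 6, 5, 1], [], 33, true⟩) (lall (memL L) [5, 1, 6, 5, 1, 6, 5, 1, 6, 5, 1, 6, 5, 1]) = true := by decide +kernel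

theorem rot6_11 : T.rot 6 [1, 5, 6, 1, 5, 6, 1, 5, 6, 1, 5, 6, 1, 5] (sel (ones 275) ip6 11) = true := by decide +kernel

theorem rot6_11r : band (Rule.ok (2 * 6) EX RL ⟨6 :: [1, 5, 6, 1, 5, 6, 1, 5, 6, 1, 5, 6, 1, 5], [], 36, true⟩) (lall (memL L) [1, 5, 6, 1, 5, 6, 1, 5, 6, 1, 5, 6, 1, 5]) = true := by decide +kernel

theorem rot6_12 : T.rot 6 [4, 2, 6, 4, 2, 6, 4, 2, 6, 4, 2, 6, 4, 2] (sel (ones 275) ip6 12) = true := by decide +kernel

theorem rot6_12r : band (Rule.ok (2 * 6) EX RL ⟨6 :: [4, 2, 6, 4, 2, 6, 4, 2, 6, 4, 2, 6, 4, 2], [], 34, true⟩) (lall (memL L) [4, 2, 6, 4, 2, 6, 4, 2, 6, 4, 2, 6, 4, 2]) = true := by decide +kernel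

theorem rot6_13 : T.rot 6 [2, 4, 6, 2, 4, 6, 2, 4, 6, 2, 4, 6, 2, 4] (sel (ones 275) ip6 13) = true := by decide +kernel

theorem rot6_13r : band (Rule.ok (2 * 6) EX RL ⟨6 :: [2, 4, 6, 2, 4, 6, 2, 4, 6, 2, 4, 6, 2, 4], [10], 34, false⟩) (lall (memL L) [2, 4, 6, 2, 4, 6, 2, 4, 6, 2, 4, 6, 2, 4]) = true := by decide +kernel

theorem rot6_14 : T.rot 6 [7, 4, 6, 7, 4, 6, 7, 4, 6, 7, 4, 6, 7, 4] (sel (ones 275) ip6 14) = true := by decide +kernel

theorem rot6_14r : band (Rule.ok (2 * 6) EX RL ⟨6 :: [7, 4, 6, 7, 4, 6, 7, 4, 6, 7, 4, 6, 7, 4], [], 35, true⟩) (lall (memL L) [7, 4, 6, 7, 4, 6, 7, 4, 6, 7, 4, 6, 7, 4]) = true := by decide +kernel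

theorem rot6_15 : T.rot 6 [4, 8, 6, 4, 8, 6, 4, 8, 6, 4, 8, 6, 4, 8] (sel (ones 275) ip6 15) = true := by decide +kernel

theorem rot6_15r : band (Rule.ok (2 * 6) EX RL ⟨6 :: [4, 8, 6, 4, 8, 6, 4, 8, 6, 4, 8, 6, 4, 8], [], 40, true⟩) (lall (memL L) [4, 8, 6, 4, 8, 6, 4, 8, 6, 4, 8, 6, 4, 8]) = true := by decide +kernel

theorem rot6_16 : T.rot 6 [5, 2, 6, 5, 2, 6, 5, 2, 6, 5, 2, 6, 5, 2] (sel (ones 275) ip6 16) = true := by decide +kernel

theorem rot6_16r : band (Rule.ok (2 * 6) EX RL ⟨6 :: [5, 2, 6, 5, 2, 6, 5, 2, 6, 5, 2, 6, 5, 2], [], 37, true⟩) (lall (memL L) [5, 2, 6, 5, 2, 6, 5, 2, 6, 5, 2, 6, 5, 2]) = true := by decide +kernel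

theorem rot6_17 : T.rot 6 [2, 5, 6, 2, 5, 6, 2, 5, 6, 2, 5, 6, 2, 5] (sel (ones 275) ip6 17) = true := by decide +kernel

theorem rot6_17r : band (Rule.ok (2 * 6) EX RL ⟨6 :: [2, 5, 6, 2, 5, 6, 2, 5, 6, 2, 5, 6, 2, 5], [10], 37, false⟩) (lall (memL L) [2, 5, 6, 2, 5, 6, 2, 5, 6, 2, 5, 6, 2, 5]) = true := by decide +kernel

theorem rot6_18 : T.rot 6 [5, 3, 6, 5, 3, 6, 5, 3, 6, 5, 3, 6, 5, 3] (sel (ones 275) ip6 18) = true := by decide +kernel

theorem rot6_18r : band (Rule.ok (2 * 6) EX RL ⟨6 :: [5, 3, 6, 5, 3, 6, 5, 3, 6, 5, 3, 6, 5, 3], [], 38, true⟩) (lall (memL L) [5, 3, 6, 5, 3, 6, 5, 3, 6, 5, 3, 6, 5, 3]) = true := by decide +kernel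

theorem rot6_19 : T.rot 6 [3, 5, 6, 3, 5, 6, 3, 5, 6, 3, 5, 6, 3, 5] (sel (ones 275) ip6 19) = true := by decide +kernel

theorem rot6_19r : band (Rule.ok (2 * 6) EX RL ⟨6 :: [3, 5, 6, 3, 5, 6, 3, 5, 6, 3, 5, 6, 3, 5], [10], 38, false⟩) (lall (memL L) [3, 5, 6, 3, 5, 6, 3, 5, 6, 3, 5, 6, 3, 5]) = true := by decide +kernel

theorem rot6_20 : T.rot 6 [7, 5, 6, 7, 5, 6, 7, 5, 6, 7, 5, 6, 7, 5] (sel (ones 275) ip6 20) = true := by decide +kernel

theorem rot6_20r : band (Rule.ok (2 * 6) EX RL ⟨6 :: [7, 5, 6, 7, 5, 6, 7, 5, 6, 7, 5, 6, 7, 5], [], 39, true⟩) (lall (memL L) [7, 5, 6, 7, 5, 6, 7, 5, 6, 7, 5, 6, 7, 5]) = true := by decide +kernel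

theorem rot6_21 : T.rot 6 [5, 8, 6, 5, 8, 6, 5, 8, 6, 5, 8, 6, 5, 8] (sel (ones 275) ip6 21) = true := by decide +kernel

theorem rot6_21r : band (Rule.ok (2 * 6) EX RL ⟨6 :: [5, 8, 6, 5, 8, 6, 5, 8, 6, 5, 8, 6, 5, 8], [], 41, true⟩) (lall (memL L) [5, 8, 6, 5, 8, 6, 5, 8, 6, 5, 8, 6, 5, 8]) = true := by decide +kernel

theorem rot6_22 : T.rot 6 [1, 4, 1, 6, 1, 4, 1, 6, 1, 4, 1, 6, 1, 4, 1, 6, 1, 4, 1] (sel (ones 275) ip6 22) = true := by decide +kernel

theorem rot6_22r : band (Rule.ok (2 * 6) EX RL ⟨6 :: [1, 4, 1, 6, 1, 4, 1, 6, 1, 4, 1, 6, 1, 4, 1, 6, 1, 4, 1], [], 31, true⟩) (lall (memL L) [1, 4, 1, 6, 1, 4, 1, 6, 1, 4, 1, 6, 1, 4, 1, 6, 1, 4, 1]) = true := by decide +kernel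

theorem ep3a : T.treePath [2, 3, 4, 5, 2, 6, 5, 4] (Nat.shiftLeft 1 270) 1 = true := by decide +kernel

theorem ep3b : T.treePath [2, 3, 4, 5, 2, 6, 5, 4] (Nat.shiftLeft 1 270) 1 = true := by decide +kernel

theorem ep3c : band (lall (fun z => Nat.ble z 255) ([2, 3, 4, 5, 2, 6, 5, 4] ++ 6 :: [4, 5, 6, 2, 5, 4, 3, 2])) (concl F IV 1270 0x40000a000190002a80038c0035a002050010b8027a80042c00204000d6000388000a8000180000200000011 (encA ([2, 3, 4, 5, 2, 6, 5, 4] ++ 6 :: [4, 5, 6, 2, 5, 4, 3, 2]) 0)) = true := by decide +kernel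

theorem ep3d : band (Rule.ok (2 * 6) EX [] ⟨lapp [2, 3, 4, 5, 2, 6, 5, 4] [4, 5, 6, 2, 5, 4, 3, 2], [], 0, false⟩) (band (lall (memL L) [2, 3, 4, 5, 2, 6, 5, 4]) (lall (memL L) [2, 3, 4, 5, 2, 6, 5, 4])) = true := by decide +kernel

theorem cov6 : T.cover 6 [(sel (ones 275) ip6 1), (sel (ones 275) ip6 2), (sel (ones 275) ip6 3), (sel (ones 275) ip6 4), (sel (ones 275) ip6 5), (sel (ones 275) ip6 6), (sel (ones 275) ip6 7), (sel (ones 275) ip6 8), (sel (ones 275) ip6 9), (sel (ones 275) ip6 10), (sel (ones 275) ip6 11), (sel (ones 275) ip6 12), (sel (ones 275) ip6 13), (sel (ones 275) ip6 14), (sel (ones 275) ip6 15), (sel (ones 275) ip6 16), (sel (ones 275) ip6 17), (sel (ones 275) ip6 18), (sel (ones 275) ip6 19), (sel (ones 275) ip6 20), (sel (ones 275) ip6 21), (sel (ones 275) ip6 22), 1, (Nat.shiftLeft 1 270)] = true := by decide +kernel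

theorem tl6 : T.treeLt 9 6 = true := by decide +kernel

theorem rot7_1 : T.rot 7 [8] (sel (ones 275) ip7 1) = true := by decide +kernel

theorem rot7_1r : band (Rule.ok (2 * 6) EX RL ⟨7 :: [8], [], 42, false⟩) (lall (memL L) [8]) = true := by decide +kernel

theorem rot7_2 : T.rot 7 [7, 7] (sel (ones 275) ip7 2) = true := by decide +kernel

theorem rot7_2r : band (Rule.ok (2 * 6) EX RL ⟨7 :: [7, 7], [], 0, true⟩) (lall (memL L) [7, 7]) = true := by decide +kernel

theorem rot7_3 : T.rot 7 [1, 7, 1] (sel (ones 275) ip7 3) = true := by decide +kernel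

theorem rot7_3r : band (Rule.ok (2 * 6) EX RL ⟨7 :: [1, 7, 1], [], 14, true⟩) (lall (memL L) [1, 7, 1]) = true := by decide +kernel

theorem rot7_4 : T.rot 7 [6, 7, 6] (sel (ones 275) ip7 4) = true := by decide +kernel

theorem rot7_4r : band (Rule.ok (2 * 6) EX RL ⟨7 :: [6, 7, 6], [], 27, true⟩) (lall (memL L) [6, 7, 6]) = true := by decide +kernel

theorem rot7_5 : T.rot 7 [3, 7, 3, 7, 3] (sel (ones 275) ip7 5) = true := by decide +kernel

theorem rot7_5r : band (Rule.ok (2 * 6) EX RL ⟨7 :: [3, 7, 3, 7, 3], [12], 1, true⟩) (lall (memL L) [3, 7, 3, 7, 3]) = true := by decide +kernel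

theorem rot7_6 : T.rot 7 [4, 7, 4, 7, 4] (sel (ones 275) ip7 6) = true := by decide +kernel

theorem rot7_6r : band (Rule.ok (2 * 6) EX RL ⟨7 :: [4, 7, 4, 7, 4], [12], 2, true⟩) (lall (memL L) [4, 7, 4, 7, 4]) = true := by decide +kernel

theorem rot7_7 : T.rot 7 [2, 7, 2, 7, 2] (sel (ones 275) ip7 7) = true := by decide +kernel

theorem rot7_7r : band (Rule.ok (2 * 6) EX RL ⟨7 :: [2, 7, 2, 7, 2], [12], 6, true⟩) (lall (memL L) [2, 7, 2, 7, 2]) = true := by decide +kernel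

theorem rot7_8 : T.rot 7 [5, 7, 5, 7, 5] (sel (ones 275) ip7 8) = true := by decide +kernel

theorem rot7_8r : band (Rule.ok (2 * 6) EX RL ⟨7 :: [5, 7, 5, 7, 5], [], 23, true⟩) (lall (memL L) [5, 7, 5, 7, 5]) = true := by decide +kernel

theorem rot7_9 : T.rot 7 [1, 4, 7, 1, 4] (sel (ones 275) ip7 9) = true := by decide +kernel

theorem rot7_9r : band (Rule.ok (2 * 6) EX RL ⟨7 :: [1, 4, 7, 1, 4], [], 24, true⟩) (lall (memL L) [1, 4, 7, 1, 4]) = true := by decide +kernel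

theorem rot7_10 : T.rot 7 [5, 1, 7, 5, 1] (sel (ones 275) ip7 10) = true := by decide +kernel

theorem rot7_10r : band (Rule.ok (2 * 6) EX RL ⟨7 :: [5, 1, 7, 5, 1], [0], 25, true⟩) (lall (memL L) [5, 1, 7, 5, 1]) = true := by decide +kernel

theorem rot7_11 : T.rot 7 [3, 8, 6, 3, 6] (sel (ones 275) ip7 11) = true := by decide +kernel

theorem rot7_11r : band (Rule.ok (2 * 6) EX RL ⟨7 :: [3, 8, 6, 3, 6], [], 28, true⟩) (lall (memL L) [3, 8, 6, 3, 6]) = true := by decide +kernel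

theorem rot7_12 : T.rot 7 [4, 2, 7, 4, 2, 7, 2, 4] (sel (ones 275) ip7 12) = true := by decide +kernel

theorem rot7_12r : band (Rule.ok (2 * 6) EX RL ⟨7 :: [4, 2, 7, 4, 2, 7, 2, 4], [2, 6], 4, true⟩) (lall (memL L) [4, 2, 7, 4, 2, 7, 2, 4]) = true := by decide +kernel

theorem rot7_13 : T.rot 7 [4, 2, 7, 2, 4, 7, 4, 2] (sel (ones 275) ip7 13) = true := by decide +kernel

theorem rot7_13r : band (Rule.ok (2 * 6) EX RL ⟨7 :: [4, 2, 7, 2, 4, 7, 4, 2], [12, 2, 6, 12], 4, true⟩) (lall (memL L) [4, 2, 7, 2, 4, 7, 4, 2]) = true := by decide +kernel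

theorem rot7_14 : T.rot 7 [2, 4, 7, 4, 2, 7, 4, 2] (sel (ones 275) ip7 14) = true := by decide +kernel

theorem rot7_14r : band (Rule.ok (2 * 6) EX RL ⟨7 :: [2, 4, 7, 4, 2, 7, 4, 2], [12], 4, true⟩) (lall (memL L) [2, 4, 7, 4, 2, 7, 4, 2]) = true := by decide +kernel

theorem rot7_15 : T.rot 7 [4, 5, 8, 4, 7, 5, 4, 1] (sel (ones 275) ip7 15) = true := by decide +kernel

theorem rot7_15r : band (Rule.ok (2 * 6) EX RL ⟨7 :: [4, 5, 8, 4, 7, 5, 4, 1], [8, 6, 0], 8, true⟩) (lall (memL L) [4, 5, 8, 4, 7, 5, 4, 1]) = true := by decide +kernel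

theorem rot7_16 : T.rot 7 [5, 4, 1, 7, 4, 5, 8, 4] (sel (ones 275) ip7 16) = true := by decide +kernel

theorem rot7_16r : band (Rule.ok (2 * 6) EX RL ⟨7 :: [5, 4, 1, 7, 4, 5, 8, 4], [12], 8, true⟩) (lall (memL L) [5, 4, 1, 7, 4, 5, 8, 4]) = true := by decide +kernel

theorem rot7_17 : T.rot 7 [5, 4, 8, 1, 4, 5, 8, 4] (sel (ones 275) ip7 17) = true := by decide +kernel

theorem rot7_17r : band (Rule.ok (2 * 6) EX RL ⟨7 :: [5, 4, 8, 1, 4, 5, 8, 4], [12, 6], 8, false⟩) (lall (memL L) [5, 4, 8, 1, 4, 5, 8, 4]) = true := by decide +kernel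

theorem rot7_18 : T.rot 7 [4, 3, 8, 4, 3, 7, 4, 3, 4] (sel (ones 275) ip7 18) = true := by decide +kernel

theorem rot7_18r : band (Rule.ok (2 * 6) EX RL ⟨7 :: [4, 3, 8, 4, 3, 7, 4, 3, 4], [4, 6], 5, true⟩) (lall (memL L) [4, 3, 8, 4, 3, 7, 4, 3, 4]) = true := by decide +kernel

theorem rot7_19 : T.rot 7 [4, 3, 4, 7, 4, 3, 8, 4, 3] (sel (ones 275) ip7 19) = true := by decide +kernel

theorem rot7_19r : band (Rule.ok (2 * 6) EX RL ⟨7 :: [4, 3, 4, 7, 4, 3, 8, 4, 3], [6, 12], 5, true⟩) (lall (memL L) [4, 3, 4, 7, 4, 3, 8, 4, 3]) = true := by decide +kernel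

theorem rot7_20 : T.rot 7 [3, 4, 8, 4, 3, 4, 8, 3, 4] (sel (ones 275) ip7 20) = true := by decide +kernel

theorem rot7_20r : band (Rule.ok (2 * 6) EX RL ⟨7 :: [3, 4, 8, 4, 3, 4, 8, 3, 4], [6, 12, 4, 6], 5, false⟩) (lall (memL L) [3, 4, 8, 4, 3, 4, 8, 3, 4]) = true := by decide +kernel

theorem rot7_21 : T.rot 7 [4, 8, 3, 2, 4, 2, 1, 4, 3] (sel (ones 275) ip7 21) = true := by decide +kernel

theorem rot7_21r : band (Rule.ok (2 * 6) EX RL ⟨7 :: [4, 8, 3, 2, 4, 2, 1, 4, 3], [0, 6, 4], 11, true⟩) (lall (memL L) [4, 8, 3, 2, 4, 2, 1, 4, 3]) = true := by decide +kernel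

theorem rot7_22 : T.rot 7 [4, 8, 3, 4, 1, 2, 4, 2, 3] (sel (ones 275) ip7 22) = true := by decide +kernel

theorem rot7_22r : band (Rule.ok (2 * 6) EX RL ⟨7 :: [4, 8, 3, 4, 1, 2, 4, 2, 3], [2, 6, 2, 4], 11, false⟩) (lall (memL L) [4, 8, 3, 4, 1, 2, 4, 2, 3]) = true := by decide +kernel

theorem rot7_23 : T.rot 7 [2, 5, 4, 7, 2, 8, 4, 5, 1, 2] (sel (ones 275) ip7 23) = true := by decide +kernel

theorem rot7_23r : band (Rule.ok (2 * 6) EX RL ⟨7 :: [2, 5, 4, 7, 2, 8, 4, 5, 1, 2], [8, 0, 2], 10, true⟩) (lall (memL L) [2, 5, 4, 7, 2, 8, 4, 5, 1, 2]) = true := by decide +kernel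

theorem rot7_24 : T.rot 7 [2, 8, 4, 5, 1, 2, 7, 2, 5, 4] (sel (ones 275) ip7 24) = true := by decide +kernel

theorem rot7_24r : band (Rule.ok (2 * 6) EX RL ⟨7 :: [2, 8, 4, 5, 1, 2, 7, 2, 5, 4], [6, 13, 2, 12], 10, true⟩) (lall (memL L) [2, 8, 4, 5, 1, 2, 7, 2, 5, 4]) = true := by decide +kernel

theorem rot7_25 : T.rot 7 [3, 5, 2, 4, 5, 3, 8, 4, 2, 5, 3, 4, 2] (sel (ones 275) ip7 25) = true := by decide +kernel

theorem rot7_25r : band (Rule.ok (2 * 6) EX RL ⟨7 :: [3, 5, 2, 4, 5, 3, 8, 4, 2, 5, 3, 4, 2], [4, 12], 13, true⟩) (lall (memL L) [3, 5, 2, 4, 5, 3, 8, 4, 2, 5, 3, 4, 2]) = true := by decide +kernel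

theorem rot7_26 : T.rot 7 [3, 5, 4, 2, 5, 3, 8, 2, 4, 3, 5, 2, 4] (sel (ones 275) ip7 26) = true := by decide +kernel

theorem rot7_26r : band (Rule.ok (2 * 6) EX RL ⟨7 :: [3, 5, 4, 2, 5, 3, 8, 2, 4, 3, 5, 2, 4], [8, 2, 6, 8, 4, 12], 13, false⟩) (lall (memL L) [3, 5, 4, 2, 5, 3, 8, 2, 4, 3, 5, 2, 4]) = true := by decide +kernel

theorem rot7_27 : T.rot 7 [4, 6, 7, 4, 6, 7, 4, 6, 7, 4, 6, 7, 4, 6] (sel (ones 275) ip7 27) = true := by decide +kernel

theorem rot7_27r : band (Rule.ok (2 * 6) EX RL ⟨7 :: [4, 6, 7, 4, 6, 7, 4, 6, 7, 4, 6, 7, 4, 6], [], 40, false⟩) (lall (memL L) [4, 6, 7, 4, 6, 7, 4, 6, 7, 4, 6, 7, 4, 6]) = true := by decide +kernel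

theorem rot7_28 : T.rot 7 [5, 6, 7, 5, 6, 7, 5, 6, 7, 5, 6, 7, 5, 6] (sel (ones 275) ip7 28) = true := by decide +kernel

theorem rot7_28r : band (Rule.ok (2 * 6) EX RL ⟨7 :: [5, 6, 7, 5, 6, 7, 5, 6, 7, 5, 6, 7, 5, 6], [], 41, false⟩) (lall (memL L) [5, 6, 7, 5, 6, 7, 5, 6, 7, 5, 6, 7, 5, 6]) = true := by decide +kernel

theorem ep1a : T.treePath [2, 3, 5] (Nat.shiftLeft 1 14) 1 = true := by decide +kernel

theorem ep1b : T.treePath [2, 3, 5, 6] (Nat.shiftLeft 1 48) 1 = true := by decide +kernel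

theorem ep1c : band (lall (fun z => Nat.ble z 255) ([2, 3, 5] ++ 7 :: [6, 5, 3, 2])) (concl F IV 1270 0x2000050000d80017c00d9c0001a0000200000008 (encA ([2, 3, 5] ++ 7 :: [6, 5, 3, 2]) 0)) = true := by decide +kernel

theorem ep1d : band (Rule.ok (2 * 6) EX [] ⟨lapp [2, 3, 5, 6] [6, 5, 3, 2], [], 0, false⟩) (band (lall (memL L) [2, 3, 5]) (lall (memL L) [2, 3, 5, 6])) = true := by decide +kernel

theorem ep2a : T.treePath [3, 2, 4] (Nat.shiftLeft 1 30) 1 = true := by decide +kernel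

theorem ep2b : T.treePath [3, 2, 4, 6] (Nat.shiftLeft 1 85) 1 = true := by decide +kernel

theorem ep2c : band (lall (fun z => Nat.ble z 255) ([3, 2, 4] ++ 7 :: [6, 4, 2, 3])) (concl F IV 1270 0x60000f0001d8002a4011280003a0000700000808 (encA ([3, 2, 4] ++ 7 :: [6, 4, 2, 3]) 0)) = true := by decide +kernel

theorem ep2d : band (Rule.ok (2 * 6) EX [] ⟨lapp [3, 2, 4, 6] [6, 4, 2, 3], [], 0, false⟩) (band (lall (memL L) [3, 2, 4]) (lall (memL L) [3, 2, 4, 6])) = true := by decide +kernel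

theorem cov7 : T.cover 7 [(sel (ones 275) ip7 1), (sel (ones 275) ip7 2), (sel (ones 275) ip7 3), (sel (ones 275) ip7 4), (sel (ones 275) ip7 5), (sel (ones 275) ip7 6), (sel (ones 275) ip7 7), (sel (ones 275) ip7 8), (sel (ones 275) ip7 9), (sel (ones 275) ip7 10), (sel (ones 275) ip7 11), (sel (ones 275) ip7 12), (sel (ones 275) ip7 13), (sel (ones 275) ip7 14), (sel (ones 275) ip7 15), (sel (ones 275) ip7 16), (sel (ones 275) ip7 17), (sel (ones 275) ip7 18), (sel (ones 275) ip7 19), (sel (ones 275) ip7 20), (sel (ones 275) ip7 21), (sel (ones 275) ip7 22), (sel (ones 275) ip7 23), (sel (ones 275) ip7 24), (sel (ones 275) ip7 25), (sel (ones 275) ip7 26), (sel (ones 275) ip7 27), (sel (ones 275) ip7 28), 1, (Nat.shiftLeft 1 14), (Nat.shiftLeft 1 30)] = true := by decide +kernel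

theorem tl7 : T.treeLt 9 7 = true := by decide +kernel

theorem rot8_1 : T.rot 8 [7] (sel (ones 275) ip8 1) = true := by decide +kernel

theorem rot8_1r : band (Rule.ok (2 * 6) EX RL ⟨8 :: [7], [], 42, false⟩) (lall (memL L) [7]) = true := by decide +kernel

theorem rot8_2 : T.rot 8 [8, 8] (sel (ones 275) ip8 2) = true := by decide +kernel

theorem rot8_2r : band (Rule.ok (2 * 6) EX RL ⟨8 :: [8, 8], [], 0, false⟩) (lall (memL L) [8, 8]) = true := by decide +kernel

theorem rot8_3 : T.rot 8 [1, 8, 1] (sel (ones 275) ip8 3) = true := by decide +kernel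

theorem rot8_3r : band (Rule.ok (2 * 6) EX RL ⟨8 :: [1, 8, 1], [13], 14, false⟩) (lall (memL L) [1, 8, 1]) = true := by decide +kernel

theorem rot8_4 : T.rot 8 [6, 8, 6] (sel (ones 275) ip8 4) = true := by decide +kernel

theorem rot8_4r : band (Rule.ok (2 * 6) EX RL ⟨8 :: [6, 8, 6], [13], 27, false⟩) (lall (memL L) [6, 8, 6]) = true := by decide +kernel

theorem rot8_5 : T.rot 8 [3, 8, 3, 8, 3] (sel (ones 275) ip8 5) = true := by decide +kernel

theorem rot8_5r : band (Rule.ok (2 * 6) EX RL ⟨8 :: [3, 8, 3, 8, 3], [], 1, false⟩) (lall (memL L) [3, 8, 3, 8, 3]) = true := by decide +kernel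

theorem rot8_6 : T.rot 8 [4, 8, 4, 8, 4] (sel (ones 275) ip8 6) = true := by decide +kernel

theorem rot8_6r : band (Rule.ok (2 * 6) EX RL ⟨8 :: [4, 8, 4, 8, 4], [], 2, false⟩) (lall (memL L) [4, 8, 4, 8, 4]) = true := by decide +kernel

theorem rot8_7 : T.rot 8 [2, 8, 2, 8, 2] (sel (ones 275) ip8 7) = true := by decide +kernel

theorem rot8_7r : band (Rule.ok (2 * 6) EX RL ⟨8 :: [2, 8, 2, 8, 2], [], 6, false⟩) (lall (memL L) [2, 8, 2, 8, 2]) = true := by decide +kernel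

theorem rot8_8 : T.rot 8 [5, 8, 5, 8, 5] (sel (ones 275) ip8 8) = true := by decide +kernel

theorem rot8_8r : band (Rule.ok (2 * 6) EX RL ⟨8 :: [5, 8, 5, 8, 5], [13], 23, false⟩) (lall (memL L) [5, 8, 5, 8, 5]) = true := by decide +kernel

theorem rot8_9 : T.rot 8 [4, 1, 8, 4, 1] (sel (ones 275) ip8 9) = true := by decide +kernel

theorem rot8_9r : band (Rule.ok (2 * 6) EX RL ⟨8 :: [4, 1, 8, 4, 1], [13], 24, false⟩) (lall (memL L) [4, 1, 8, 4, 1]) = true := by decide +kernel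

theorem rot8_10 : T.rot 8 [1, 5, 8, 1, 5] (sel (ones 275) ip8 10) = true := by decide +kernel

theorem rot8_10r : band (Rule.ok (2 * 6) EX RL ⟨8 :: [1, 5, 8, 1, 5], [8], 25, false⟩) (lall (memL L) [1, 5, 8, 1, 5]) = true := by decide +kernel

theorem rot8_11 : T.rot 8 [6, 3, 6, 7, 3] (sel (ones 275) ip8 11) = true := by decide +kernel

theorem rot8_11r : band (Rule.ok (2 * 6) EX RL ⟨8 :: [6, 3, 6, 7, 3], [13], 28, false⟩) (lall (memL L) [6, 3, 6, 7, 3]) = true := by decide +kernel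

theorem rot8_12 : T.rot 8 [2, 4, 8, 2, 4, 8, 4, 2] (sel (ones 275) ip8 12) = true := by decide +kernel

theorem rot8_12r : band (Rule.ok (2 * 6) EX RL ⟨8 :: [2, 4, 8, 2, 4, 8, 4, 2], [], 4, false⟩) (lall (memL L) [2, 4, 8, 2, 4, 8, 4, 2]) = true := by decide +kernel

theorem rot8_13 : T.rot 8 [2, 4, 8, 4, 2, 8, 2, 4] (sel (ones 275) ip8 13) = true := by decide +kernel

theorem rot8_13r : band (Rule.ok (2 * 6) EX RL ⟨8 :: [2, 4, 8, 4, 2, 8, 2, 4], [12, 2, 6], 4, false⟩) (lall (memL L) [2, 4, 8, 4, 2, 8, 2, 4]) = true := by decide +kernel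

theorem rot8_14 : T.rot 8 [4, 2, 8, 2, 4, 8, 2, 4] (sel (ones 275) ip8 14) = true := by decide +kernel

theorem rot8_14r : band (Rule.ok (2 * 6) EX RL ⟨8 :: [4, 2, 8, 2, 4, 8, 2, 4], [2, 6, 13], 4, false⟩) (lall (memL L) [4, 2, 8, 2, 4, 8, 2, 4]) = true := by decide +kernel

theorem rot8_15 : T.rot 8 [4, 7, 5, 4, 1, 7, 4, 5] (sel (ones 275) ip8 15) = true := by decide +kernel

theorem rot8_15r : band (Rule.ok (2 * 6) EX RL ⟨8 :: [4, 7, 5, 4, 1, 7, 4, 5], [12, 6, 13], 8, true⟩) (lall (memL L) [4, 7, 5, 4, 1, 7, 4, 5]) = true := by decide +kernel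

theorem rot8_16 : T.rot 8 [4, 7, 5, 4, 8, 1, 4, 5] (sel (ones 275) ip8 16) = true := by decide +kernel

theorem rot8_16r : band (Rule.ok (2 * 6) EX RL ⟨8 :: [4, 7, 5, 4, 8, 1, 4, 5], [], 8, false⟩) (lall (memL L) [4, 7, 5, 4, 8, 1, 4, 5]) = true := by decide +kernel

theorem rot8_17 : T.rot 8 [1, 4, 5, 8, 4, 7, 5, 4] (sel (ones 275) ip8 17) = true := by decide +kernel

theorem rot8_17r : band (Rule.ok (2 * 6) EX RL ⟨8 :: [1, 4, 5, 8, 4, 7, 5, 4], [8, 6, 0, 13], 8, false⟩) (lall (memL L) [1, 4, 5, 8, 4, 7, 5, 4]) = true := by decide +kernel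

theorem rot8_18 : T.rot 8 [4, 3, 7, 4, 3, 4, 7, 4, 3] (sel (ones 275) ip8 18) = true := by decide +kernel

theorem rot8_18r : band (Rule.ok (2 * 6) EX RL ⟨8 :: [4, 3, 7, 4, 3, 4, 7, 4, 3], [6, 12, 4, 6, 13], 5, true⟩) (lall (memL L) [4, 3, 7, 4, 3, 4, 7, 4, 3]) = true := by decide +kernel

theorem rot8_19 : T.rot 8 [3, 4, 7, 3, 4, 8, 4, 3, 4] (sel (ones 275) ip8 19) = true := by decide +kernel

theorem rot8_19r : band (Rule.ok (2 * 6) EX RL ⟨8 :: [3, 4, 7, 3, 4, 8, 4, 3, 4], [6], 5, false⟩) (lall (memL L) [3, 4, 7, 3, 4, 8, 4, 3, 4]) = true := by decide +kernel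

theorem rot8_20 : T.rot 8 [4, 3, 4, 8, 3, 4, 7, 3, 4] (sel (ones 275) ip8 20) = true := by decide +kernel

theorem rot8_20r : band (Rule.ok (2 * 6) EX RL ⟨8 :: [4, 3, 4, 8, 3, 4, 7, 3, 4], [4, 6, 13], 5, false⟩) (lall (memL L) [4, 3, 4, 8, 3, 4, 7, 3, 4]) = true := by decide +kernel

theorem rot8_21 : T.rot 8 [3, 2, 4, 2, 1, 4, 3, 7, 4] (sel (ones 275) ip8 21) = true := by decide +kernel

theorem rot8_21r : band (Rule.ok (2 * 6) EX RL ⟨8 :: [3, 2, 4, 2, 1, 4, 3, 7, 4], [2, 6, 2, 4, 13], 11, true⟩) (lall (memL L) [3, 2, 4, 2, 1, 4, 3, 7, 4]) = true := by decide +kernel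

theorem rot8_22 : T.rot 8 [3, 4, 1, 2, 4, 2, 3, 7, 4] (sel (ones 275) ip8 22) = true := by decide +kernel

theorem rot8_22r : band (Rule.ok (2 * 6) EX RL ⟨8 :: [3, 4, 1, 2, 4, 2, 3, 7, 4], [0, 6, 4, 13], 11, false⟩) (lall (memL L) [3, 4, 1, 2, 4, 2, 3, 7, 4]) = true := by decide +kernel

theorem rot8_23 : T.rot 8 [4, 5, 1, 2, 7, 2, 5, 4, 7, 2] (sel (ones 275) ip8 23) = true := by decide +kernel

theorem rot8_23r : band (Rule.ok (2 * 6) EX RL ⟨8 :: [4, 5, 1, 2, 7, 2, 5, 4, 7, 2], [6, 13], 10, true⟩) (lall (memL L) [4, 5, 1, 2, 7, 2, 5, 4, 7, 2]) = true := by decide +kernel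

theorem rot8_24 : T.rot 8 [4, 5, 2, 8, 2, 1, 5, 4, 7, 2] (sel (ones 275) ip8 24) = true := by decide +kernel

theorem rot8_24r : band (Rule.ok (2 * 6) EX RL ⟨8 :: [4, 5, 2, 8, 2, 1, 5, 4, 7, 2], [6, 13, 2], 10, false⟩) (lall (memL L) [4, 5, 2, 8, 2, 1, 5, 4, 7, 2]) = true := by decide +kernel

theorem rot8_25 : T.rot 8 [2, 1, 5, 4, 7, 2, 8, 4, 5, 2] (sel (ones 275) ip8 25) = true := by decide +kernel

theorem rot8_25r : band (Rule.ok (2 * 6) EX RL ⟨8 :: [2, 1, 5, 4, 7, 2, 8, 4, 5, 2], [8, 0, 2, 13], 10, false⟩) (lall (memL L) [2, 1, 5, 4, 7, 2, 8, 4, 5, 2]) = true := by decide +kernel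

theorem rot8_26 : T.rot 8 [4, 2, 5, 3, 4, 2, 7, 3, 5, 2, 4, 5, 3] (sel (ones 275) ip8 26) = true := by decide +kernel

theorem rot8_26r : band (Rule.ok (2 * 6) EX RL ⟨8 :: [4, 2, 5, 3, 4, 2, 7, 3, 5, 2, 4, 5, 3], [8, 2, 6, 8, 4], 13, true⟩) (lall (memL L) [4, 2, 5, 3, 4, 2, 7, 3, 5, 2, 4, 5, 3]) = true := by decide +kernel

theorem rot8_27 : T.rot 8 [2, 4, 3, 5, 2, 4, 7, 3, 5, 4, 2, 5, 3] (sel (ones 275) ip8 27) = true := by decide +kernel

theorem rot8_27r : band (Rule.ok (2 * 6) EX RL ⟨8 :: [2, 4, 3, 5, 2, 4, 7, 3, 5, 4, 2, 5, 3], [4], 13, false⟩) (lall (memL L) [2, 4, 3, 5, 2, 4, 7, 3, 5, 4, 2, 5, 3]) = true := by decide +kernel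

theorem rot8_28 : T.rot 8 [6, 4, 8, 6, 4, 8, 6, 4, 8, 6, 4, 8, 6, 4] (sel (ones 275) ip8 28) = true := by decide +kernel

theorem rot8_28r : band (Rule.ok (2 * 6) EX RL ⟨8 :: [6, 4, 8, 6, 4, 8, 6, 4, 8, 6, 4, 8, 6, 4], [6], 35, false⟩) (lall (memL L) [6, 4, 8, 6, 4, 8, 6, 4, 8, 6, 4, 8, 6, 4]) = true := by decide +kernel

theorem rot8_29 : T.rot 8 [6, 5, 8, 6, 5, 8, 6, 5, 8, 6, 5, 8, 6, 5] (sel (ones 275) ip8 29) = true := by decide +kernel

theorem rot8_29r : band (Rule.ok (2 * 6) EX RL ⟨8 :: [6, 5, 8, 6, 5, 8, 6, 5, 8, 6, 5, 8, 6, 5], [8], 39, false⟩) (lall (memL L) [6, 5, 8, 6, 5, 8, 6, 5, 8, 6, 5, 8, 6, 5]) = true := by decide +kernel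

theorem cov8 : T.cover 8 [(sel (ones 275) ip8 1), (sel (ones 275) ip8 2), (sel (ones 275) ip8 3), (sel (ones 275) ip8 4), (sel (ones 275) ip8 5), (sel (ones 275) ip8 6), (sel (ones 275) ip8 7), (sel (ones 275) ip8 8), (sel (ones 275) ip8 9), (sel (ones 275) ip8 10), (sel (ones 275) ip8 11), (sel (ones 275) ip8 12), (sel (ones 275) ip8 13), (sel (ones 275) ip8 14), (sel (ones 275) ip8 15), (sel (ones 275) ip8 16), (sel (ones 275) ip8 17), (sel (ones 275) ip8 18), (sel (ones 275) ip8 19), (sel (ones 275) ip8 20), (sel (ones 275) ip8 21), (sel (ones 275) ip8 22), (sel (ones 275) ip8 23), (sel (ones 275) ip8 24), (sel (ones 275) ip8 25), (sel (ones 275) ip8 26), (sel (ones 275) ip8 27), (sel (ones 275) ip8 28), (sel (ones 275) ip8 29)] = true := by decide +kernel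

theorem tl8 : T.treeLt 9 8 = true := by decide +kernel

end Cfsg.Agent.Spor.McB
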