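import Cfsg.Agent.Spor.Sub3
import Cfsg.Agent.Spor.McB.S.Main
import Cfsg.Agent.Spor.McB.L.Main
import Cfsg.Agent.Spor.McA.S.Main
import Cfsg.Agent.Spor.McKa.Main
import Cfsg.Agent.Spor.McKb.Main

set_option autoImplicit false
set_option maxRecDepth 100000

namespace Cfsg.Agent.Spor.McB

theorem eRL : McA.RL = RL := by decide +kernel

theorem bound : Bound 7 6 RL 898128000 := eRL ▸ (show Bound 7 6 McA.RL (22275 * (15 * 2688)) from (McA.cert.bound' (McKa.cert.bound McKb.cert.bound_nil (H := [([], 14, false), ([], 14, false), ([], 14, false), ([], 0, true), ([], 1, true), ([], 2, true), ([], 3, true), ([], 4, true), ([], 5, true), ([], 6, true)]) (by decide +kernel)) (H := [([], 0, true), ([], 1, true), ([], 2, true), ([], 3, true), ([], 4, true), ([], 5, true), ([], 6, true), ([], 7, true), ([], 8, true), ([], 9, true), ([], 10, true), ([], 11, true), ([], 12, true), ([], 13, true), ([], 14, true), ([], 15, true), ([], 16, true), ([], 17, true), ([], 18, true), ([], 19, true), ([], 20, true), ([], 21, true),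 ([], 22, true), ([], 23, true), ([], 24, true), ([], 25, true), ([], 26, true), ([], 27, true), ([], 28, true), ([], 29, true), ([], 30, true), ([], 31, true), ([], 32, true), ([], 33, true), ([], 34, true), ([], 35, true), ([], 36, true), ([], 37, true), ([], 38, true), ([], 39, true), ([], 40, true), ([], 41, true)]) (H' := [([], 42, false), ([], 42, false), ([], 42, false), ([], 42, false), ([], 42, false), ([], 0, true), ([], 1, true), ([], 2, true), ([], 3, true), ([], 4, true), ([], 5, true), ([], 6, true), ([], 7, true), ([], 8, true), ([], 9, true), ([], 10, true), ([], 11, true), ([], 12, true), ([], 13, true)]) (by decide +kernel) (by decide +kernel)))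

/-- the permutation group -/
noncomputable abbrev P : Subgroup (Equiv.Perm ℕ) := gsub 7 fP
noncomputable abbrev p : ℕ → P := lift P fP

theorem lbP : 898128000 ∣ Nat.card P := by
  rw [P, L.eG]; exact L.lb

theorem cardP : Nat.card P = 898128000 := Nat.dvd_antisymm (bound _ _ cert.pres) lbP

instance instFiniteP : Finite P := Nat.finite_of_card_ne_zero (by rw [cardP]; norm_num)

theorem coreP : (wsub 7 p BW).normalCore = ⊥ :=
  cert.self.core_eq_bot P.subtype_injective ((Subgroup.range_subtype P).symm ▸ S.hfix)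

theorem presP : Pres 7 6 RL p := cert.pres.lift

theorem coatomA : IsCoatom (wsub 7 p McA.BW) := by
  obtain ⟨φ, hφ, h⟩ := McA.cert.act' (eRL ▸ presP) (gsub_lift 7 _)
    (bound.exists_hom (by norm_num) cert.pres (eRL ▸ McA.cert.pres) lbP)
  exact h.coatom (by norm_num) ((wsub_map hφ _).trans McA.S.eH)
    ((range_eq_gsub hφ (gsub_lift 7 _)).trans McA.S.eG) McA.S.hX McA.S.hXc McA.S.hY

def xW : List ℕ := [0, 8, 2, 12, 4, 6]
def QW : List (List ℕ) := [[4, 8, 4, 10, 6, 8, 0, 8, 6, 10, 8], [12, 2, 6, 10, 6, 8, 6, 10, 2, 6, 13],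
  [8, 2, 13, 10, 8, 6, 10, 6, 8, 0, 10, 13], [10, 4, 8, 10, 6, 8, 4, 13, 6, 10, 8, 10]]

theorem lbQ : 243 ∣ Nat.card (wsub 7 p (xW :: QW)) := by
  rw [← Subgroup.card_map_of_injective P.subtype_injective, map_wsub_lift]
  exact (congrArg (fun K : Subgroup (Equiv.Perm ℕ) => Nat.card K) L.eQ).symm ▸ L.lbQ

theorem topJ : wsub 7 p [[12], xW, [4, 8, 4, 10, 6, 8, 0, 8, 6, 10, 8]] = ⊤ := by
  apply Subgroup.eq_top_of_card_eq
  refine Nat.dvd_antisymm (Subgroup.card_subgroup_dvd_card _) ?_
  rw [cardP, ← Subgroup.card_map_of_injective P.subtype_injective, map_wsub_lift]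
  exact (congrArg (fun K : Subgroup (Equiv.Perm ℕ) => Nat.card K) L.eJ).symm ▸ L.lbJ

theorem presQ : Pres 7 6 (RL ++ L.XQ) p := (cert.pres.append L.hXQ).lift

end Cfsg.Agent.Spor.McB
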